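import Cfsg.Agent.H264.FKS.Res
import Cfsg.Agent.H498.SporOut
import Cfsg.Agent.S2119
import Cfsg.Agent.H824.ProdLem
import Cfsg.Agent.H867.TitsOut

/-!
# Large primes of `|Aut S|` divide `|S|` (helper304, TEAM ELUSIVE)

`dvd_of_dvd_aut`: `S` a known nonabelian simple group, `r ≥ 5` prime, no `r`-th power of a prime divides `|S|`;
then `r ∣ |Aut S|` implies `r ∣ |S|`.
-/

set_option autoImplicit false

namespace Cfsg.Agent.H304.OutCop

open Cfsg Cfsg.Agent.OrdDiv Cfsg.Agent.H436 Cfsg.Agent.H915.GN Cfsg.Agent.H264.FKS Cfsg.Agent.H902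
  Cfsg.Agent.H902.Names

universe u

theorem cop_dd {p f : ℕ} (hp : p.Prime) {X : Art.Sh} (hok : Art.Ok X p f) : (Art.dd X (p ^ f)).Coprime (p ^ f) := by
  have hq : 1 ≤ p ^ f := Nat.one_le_pow _ _ hp.pos
  have h1 := cop_sub (q := p ^ f) (k := 1) hq le_rfl
  have h2 := cop_add (q := p ^ f) (k := 1) le_rfl
  rw [pow_one] at h1 h2
  cases X
  case L n => exact Nat.Coprime.coprime_dvd_left (Nat.gcd_dvd_right _ _) h1
  case C n => exact Nat.Coprime.coprime_dvd_left (Nat.gcd_dvd_right _ _) h1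
  case U n => exact Nat.Coprime.coprime_dvd_left (Nat.gcd_dvd_right _ _) h2
  case D n =>
    have h3 : 4 ≤ n := hok
    exact Nat.Coprime.coprime_dvd_left (Nat.gcd_dvd_right _ _) (cop_sub (q := p ^ f) (k := n) hq (by omega))
  case DD n =>
    have h3 : 4 ≤ n := hok
    exact Nat.Coprime.coprime_dvd_left (Nat.gcd_dvd_right _ _) (cop_add (q := p ^ f) (k := n) (by omega))
  case E6 => exact Nat.Coprime.coprime_dvd_left (Nat.gcd_dvd_right _ _) h1
  case E7 => exact Nat.Coprime.coprime_dvd_left (Nat.gcd_dvd_right _ _) h1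
  case TE6 => exact Nat.Coprime.coprime_dvd_left (Nat.gcd_dvd_right _ _) h2
  all_goals exact Nat.coprime_one_left _

theorem NN_pos {p f : ℕ} {X : Art.Sh} (hok : Art.Ok X p f) : Art.NN X ≠ 0 := by
  cases X
  case L n =>
    have h1 : 2 ≤ n := hok.1
    have h2 : 2 * 1 ≤ n * (n - 1) := Nat.mul_le_mul h1 (by omega)
    show n * (n - 1) / 2 ≠ 0
    omega
  case C n =>
    have h1 : 2 ≤ n := hok.1
    exact pow_ne_zero 2 (by omega)
  case U n =>
    have h1 : 3 ≤ n := hok.1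
    have h2 : 2 * 1 ≤ n * (n - 1) := Nat.mul_le_mul (by omega) (by omega)
    show n * (n - 1) / 2 ≠ 0
    omega
  case D n =>
    have h1 : 4 ≤ n := hok
    exact mul_ne_zero (by omega) (by omega)
  case DD n =>
    have h1 : 4 ≤ n := hok
    exact mul_ne_zero (by omega) (by omega)
  all_goals decide

theorem pow_dvd_of_real {X : Art.Sh} {p f M : ℕ} (h : Art.Real X p f M) : p ^ f ∣ M := by
  obtain ⟨hp, hf, hok, he⟩ := h
  have h1 : (p ^ f) ^ Art.NN X ∣ Art.dd X (p ^ f) * M := by rw [he]; exact Dvd.intro _ rfl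
  have h2 : (p ^ f) ^ Art.NN X ∣ M :=
    Nat.Coprime.dvd_of_dvd_mul_left (Nat.Coprime.pow_left _ (cop_dd hp hok).symm) h1
  exact (dvd_pow_self _ (NN_pos hok)).trans h2

theorem exp_lt {X : Art.Sh} {p f M r : ℕ} (h : Art.Real X p f M) (hN : ∀ p : ℕ, p.Prime → ¬ p ^ r ∣ M) : f < r := by
  by_contra hc
  push Not at hc
  exact hN p h.hp ((pow_dvd_pow p hc).trans (pow_dvd_of_real h))

theorem dvd_alt {n r : ℕ} (hn : 5 ≤ n) (hr : r.Prime) (h5 : 5 ≤ r)
    (h : r ∣ Nat.card (MulAut (alternatingGroup (Fin n)))) : r ∣ Nat.card (alternatingGroup (Fin n)) := by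
  have h1 := alt_card hn (MulEquiv.refl _)
  have h2 : r ∣ n.factorial := by
    by_cases h6 : n = 6
    · subst h6
      rw [H824.ProdLem.card_aut_a6] at h
      have h3 : r ∣ 2 * Nat.factorial 6 := by
        rw [show 2 * Nat.factorial 6 = 1440 by decide]
        exact h
      exact (hr.dvd_mul.mp h3).resolve_left fun h4 => by
        have := Nat.le_of_dvd (by norm_num) h4
        omega
    · rwa [← Nat.card_congr (Equiv.ofBijective _ (S2119.result n (by omega) h6)), Nat.card_eq_fintype_card,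
        Fintype.card_perm, Fintype.card_fin] at h
  rw [h1] at h2
  exact (hr.dvd_mul.mp h2).resolve_left fun h4 => by
    have := Nat.le_of_dvd (by norm_num) h4
    omega

/-- a name is alternating, of Lie type in some characteristic, the Tits group or sporadic -/
theorem name_cases {S : Type u} [Group S] {g : Grp} (h : IsNamed g S) :
    (∃ n, 5 ≤ n ∧ Nonempty (S ≃* alternatingGroup (Fin n))) ∨ (∃ p, p.Prime ∧ HasChar p g) ∨ Lie.IsoTits S ∨
      IsSporadicGroup S := by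
  have key : ∀ q : ℕ, IsPrimePow q → ∃ p, p.Prime ∧ ∃ f, q = p ^ f := fun q hq => by
    obtain ⟨p, f, hp, -, h⟩ := (isPrimePow_nat_iff _).1 hq
    exact ⟨p, hp, f, h.symm⟩
  obtain ⟨hr, hc, -, -⟩ := h
  cases g
  case alt n => exact Or.inl ⟨n, hc, hr⟩
  case psl m q => exact Or.inr (Or.inl (key q hc.2.2))
  case psp m q => exact Or.inr (Or.inl (key q hc.2.2))
  case psu m q => exact Or.inr (Or.inl (key q hc.2.2))
  case oodd m q => exact Or.inr (Or.inl (key q hc.2.2))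
  case oplus m q => exact Or.inr (Or.inl (key q hc.2))
  case ominus m q => exact Or.inr (Or.inl (key q hc.2))
  case g2 q => exact Or.inr (Or.inl (key q hc.2))
  case f4 q => exact Or.inr (Or.inl (key q hc))
  case e6 q => exact Or.inr (Or.inl (key q hc))
  case e7 q => exact Or.inr (Or.inl (key q hc))
  case e8 q => exact Or.inr (Or.inl (key q hc))
  case te6 q => exact Or.inr (Or.inl (key q hc))
  case td4 q => exact Or.inr (Or.inl (key q hc))
  case sz q =>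
    obtain ⟨m, -, h⟩ := hc
    exact Or.inr (Or.inl ⟨2, Nat.prime_two, _, h⟩)
  case ree q =>
    obtain ⟨m, -, h⟩ := hc
    exact Or.inr (Or.inl ⟨3, Nat.prime_three, _, h⟩)
  case tf4 q =>
    obtain ⟨m, -, h⟩ := hc
    exact Or.inr (Or.inl ⟨2, Nat.prime_two, _, h⟩)
  case tits => exact Or.inr (Or.inr (Or.inl hr))
  case m11 => exact Or.inr (Or.inr (Or.inr (Or.inl hr)))
  case m12 => exact Or.inr (Or.inr (Or.inr (Or.inr (Or.inl hr))))
  case m22 => exact Or.inr (Or.inr (Or.inr (Or.inr (Or.inr (Or.inl hr)))))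
  case m23 => exact Or.inr (Or.inr (Or.inr (Or.inr (Or.inr (Or.inr (Or.inl hr))))))
  case m24 => exact Or.inr (Or.inr (Or.inr (Or.inr (Or.inr (Or.inr (Or.inr (Or.inl hr)))))))
  case j1 => exact Or.inr (Or.inr (Or.inr (Or.inr (Or.inr (Or.inr (Or.inr (Or.inr (Or.inl hr))))))))
  case j2 => exact Or.inr (Or.inr (Or.inr (Or.inr (Or.inr (Or.inr (Or.inr (Or.inr (Or.inr (Or.inl hr)))))))))
  case j3 => exact Or.inr (Or.inr (Or.inr (Or.inr (Or.inr (Or.inr (Or.inr (Or.inr (Or.inr (Or.inr (Or.inl hr))))))))))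
  case j4 => exact Or.inr (Or.inr (Or.inr (Or.inr (Or.inr (Or.inr (Or.inr (Or.inr (Or.inr (Or.inr (Or.inr (Or.inl hr)))))))))))
  case co1 => exact Or.inr (Or.inr (Or.inr (Or.inr (Or.inr (Or.inr (Or.inr (Or.inr (Or.inr (Or.inr (Or.inr (Or.inr (Or.inl hr))))))))))))
  case co2 => exact Or.inr (Or.inr (Or.inr (Or.inr (Or.inr (Or.inr (Or.inr (Or.inr (Or.inr (Or.inr (Or.inr (Or.inr (Or.inr (Or.inl hr)))))))))))))
  case co3 => exact Or.inr (Or.inr (Or.inr (Or.inr (Or.inr (Or.inr (Or.inr (Or.inr (Or.inr (Or.inr (Or.inr (Or.inr (Or.inr (Or.inr (Or.inl hr))))))))))))))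
  case mcl => exact Or.inr (Or.inr (Or.inr (Or.inr (Or.inr (Or.inr (Or.inr (Or.inr (Or.inr (Or.inr (Or.inr (Or.inr (Or.inr (Or.inr (Or.inr (Or.inl hr)))))))))))))))
  case hs => exact Or.inr (Or.inr (Or.inr (Or.inr (Or.inr (Or.inr (Or.inr (Or.inr (Or.inr (Or.inr (Or.inr (Or.inr (Or.inr (Or.inr (Or.inr (Or.inr (Or.inl hr))))))))))))))))
  case suz => exact Or.inr (Or.inr (Or.inr (Or.inr (Or.inr (Or.inr (Or.inr (Or.inr (Or.inr (Or.inr (Or.inr (Or.inr (Or.inr (Or.inr (Or.inr (Or.inr (Or.inr (Or.inl hr)))))))))))))))))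
  case he => exact Or.inr (Or.inr (Or.inr (Or.inr (Or.inr (Or.inr (Or.inr (Or.inr (Or.inr (Or.inr (Or.inr (Or.inr (Or.inr (Or.inr (Or.inr (Or.inr (Or.inr (Or.inr (Or.inl hr))))))))))))))))))
  case ru => exact Or.inr (Or.inr (Or.inr (Or.inr (Or.inr (Or.inr (Or.inr (Or.inr (Or.inr (Or.inr (Or.inr (Or.inr (Or.inr (Or.inr (Or.inr (Or.inr (Or.inr (Or.inr (Or.inr (Or.inl hr)))))))))))))))))))
  case on => exact Or.inr (Or.inr (Or.inr (Or.inr (Or.inr (Or.inr (Or.inr (Or.inr (Or.inr (Or.inr (Or.inr (Or.inr (Or.inr (Or.inr (Or.inr (Or.inr (Or.inr (Or.inr (Or.inr (Or.inr (Or.inl hr))))))))))))))))))))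
  case ly => exact Or.inr (Or.inr (Or.inr (Or.inr (Or.inr (Or.inr (Or.inr (Or.inr (Or.inr (Or.inr (Or.inr (Or.inr (Or.inr (Or.inr (Or.inr (Or.inr (Or.inr (Or.inr (Or.inr (Or.inr (Or.inr (Or.inl hr)))))))))))))))))))))
  case fi22 => exact Or.inr (Or.inr (Or.inr (Or.inr (Or.inr (Or.inr (Or.inr (Or.inr (Or.inr (Or.inr (Or.inr (Or.inr (Or.inr (Or.inr (Or.inr (Or.inr (Or.inr (Or.inr (Or.inr (Or.inr (Or.inr (Or.inr (Or.inl hr))))))))))))))))))))))
  case fi23 => exact Or.inr (Or.inr (Or.inr (Or.inr (Or.inr (Or.inr (Or.inr (Or.inr (Or.inr (Or.inr (Or.inr (Or.inr (Or.inr (Or.inr (Or.inr (Or.inr (Or.inr (Or.inr (Or.inr (Or.inr (Or.inr (Or.inr (Or.inr (Or.inl hr)))))))))))))))))))))))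
  case fi24 => exact Or.inr (Or.inr (Or.inr (Or.inr (Or.inr (Or.inr (Or.inr (Or.inr (Or.inr (Or.inr (Or.inr (Or.inr (Or.inr (Or.inr (Or.inr (Or.inr (Or.inr (Or.inr (Or.inr (Or.inr (Or.inr (Or.inr (Or.inr (Or.inr (Or.inl hr))))))))))))))))))))))))
  case hn => exact Or.inr (Or.inr (Or.inr (Or.inr (Or.inr (Or.inr (Or.inr (Or.inr (Or.inr (Or.inr (Or.inr (Or.inr (Or.inr (Or.inr (Or.inr (Or.inr (Or.inr (Or.inr (Or.inr (Or.inr (Or.inr (Or.inr (Or.inr (Or.inr (Or.inr (Or.inl hr)))))))))))))))))))))))))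
  case th => exact Or.inr (Or.inr (Or.inr (Or.inr (Or.inr (Or.inr (Or.inr (Or.inr (Or.inr (Or.inr (Or.inr (Or.inr (Or.inr (Or.inr (Or.inr (Or.inr (Or.inr (Or.inr (Or.inr (Or.inr (Or.inr (Or.inr (Or.inr (Or.inr (Or.inr (Or.inr (Or.inl hr))))))))))))))))))))))))))
  case b => exact Or.inr (Or.inr (Or.inr (Or.inr (Or.inr (Or.inr (Or.inr (Or.inr (Or.inr (Or.inr (Or.inr (Or.inr (Or.inr (Or.inr (Or.inr (Or.inr (Or.inr (Or.inr (Or.inr (Or.inr (Or.inr (Or.inr (Or.inr (Or.inr (Or.inr (Or.inr (Or.inr (Or.inl hr)))))))))))))))))))))))))))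
  case m => exact Or.inr (Or.inr (Or.inr (Or.inr (Or.inr (Or.inr (Or.inr (Or.inr (Or.inr (Or.inr (Or.inr (Or.inr (Or.inr (Or.inr (Or.inr (Or.inr (Or.inr (Or.inr (Or.inr (Or.inr (Or.inr (Or.inr (Or.inr (Or.inr (Or.inr (Or.inr (Or.inr (Or.inr hr)))))))))))))))))))))))))))

/-- **Large primes of `|Aut S|` divide `|S|`.** -/
theorem dvd_of_dvd_aut (T : OrderTable.{u}) {S : Type u} [Group S] [Finite S] [IsSimpleGroup S]
    (hk : IsKnownSimple' S) (hna : ¬ ∀ a b : S, a * b = b * a) {r : ℕ} (hr : r.Prime) (h5 : 5 ≤ r)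
    (hN : ∀ p : ℕ, p.Prime → ¬ p ^ r ∣ Nat.card S) (h : r ∣ Nat.card (MulAut S)) : r ∣ Nat.card S := by
  have hna' : ¬ IsMulCommutative S := fun hc => hna fun a b => hc.is_comm.comm a b
  have hsmall : Nat.card (Cfsg.Out S) ≤ 2 → r ∣ Nat.card S := by
    intro h2
    rw [← H934.OutB.card_out_mul S hna'] at h
    refine (hr.dvd_mul.mp h).resolve_left fun h3 => ?_
    have := Nat.le_of_dvd Nat.card_pos h3
    omega
  obtain ⟨g, hg⟩ := exists_named T hk hna
  rcases name_cases hg with ⟨n, hn, ⟨e⟩⟩ | ⟨p, hp, hch⟩ | ht | hs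
  · rw [Nat.card_congr e.toEquiv]
    rw [Nat.card_congr (MulAut.congr e).toEquiv] at h
    exact dvd_alt hn hr h5 h
  · rw [← H934.OutB.card_out_mul S hna'] at h
    rcases hr.dvd_mul.mp h with h3 | h3
    · obtain ⟨X, f, -, hre, hfl⟩ := exists_lie hp hg hch
      refine dvd_of_out hna hp hg hch hr h5 (fun f₁ hf₁ => ?_) h3
      have h4 : f₁ = f := Nat.pow_right_injective hp.two_le (hf₁.symm.trans hfl)
      rw [h4]
      exact exp_lt hre hN
    · exact h3
  · exact hsmall (H867.TitsOut.card_out_le ht)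
  · exact hsmall (H498.SporOut.index_le_two hs)

end Cfsg.Agent.H304.OutCop
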