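import Cfsg.Agent.H304.GeoL
import Cfsg.Agent.SuzukiRankOne.Translation
import Cfsg.Agent.H278.ElDefs

/-!
# The point and hyperplane stabilisers of `PSL_6(2)` (helper304, TEAM ELUSIVE)

They contain no automorphic image of the cube of an element of order nine.
-/

set_option autoImplicit false
set_option linter.style.haveILetI false

namespace Cfsg.Agent.H304.L62

open Matrix Cfsg Cfsg.Geo Cfsg.Agent.H304.PslT

def B : Matrix (Fin 6) (Fin 6) (ZMod 2) :=
  !![0,0,0,0,0,1; 1,0,0,0,0,0; 0,1,0,0,0,0; 0,0,1,0,0,1; 0,0,0,1,0,0; 0,0,0,0,1,0]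

def C : Matrix (Fin 6) (Fin 6) (ZMod 2) :=
  !![0,0,0,1,0,0; 0,0,0,0,1,0; 0,0,0,0,0,1; 1,0,0,1,0,0; 0,1,0,0,1,0; 0,0,1,0,0,1]

theorem B3 : B * B * B = C := by decide

theorem C3 : C * C * C = 1 := by decide

theorem C_ne : C ≠ 1 := by decide

variable {F : Type*} [Field F] [Fintype F]

theorem charP_two (hF : Fintype.card F = 2) : CharP F 2 := by
  obtain ⟨p, hp⟩ := CharP.exists F
  have hpp := CharP.char_is_prime F p
  obtain ⟨k, -, hk⟩ := FiniteField.card F p
  have : p ∣ 2 := by rw [← hF, hk]; exact dvd_pow_self p k.ne_zero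
  have h2 : p = 2 := (Nat.prime_dvd_prime_iff_eq hpp Nat.prime_two).mp this
  rwa [← h2]

theorem exists_nine (hF : Fintype.card F = 2) : ∃ g : Matrix.SpecialLinearGroup (Fin 6) F, g ^ 9 = 1 ∧ g ^ 3 ≠ 1 := by
  haveI := charP_two hF
  let φ : ZMod 2 →+* F := ZMod.castHom (dvd_refl 2) F
  have hφ : Function.Injective φ := φ.injective
  set B' : Matrix (Fin 6) (Fin 6) F := φ.mapMatrix B with hB'
  have h3 : B' ^ 3 = φ.mapMatrix C := by
    rw [hB', ← B3, pow_succ, pow_two, map_mul, map_mul]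
  have h9 : B' ^ 9 = 1 := by
    rw [show 9 = 3 * 3 by norm_num, pow_mul, h3, pow_succ, pow_two, ← map_mul, ← map_mul, C3, map_one]
  have hdet : B'.det = 1 := by
    have h1 : B'.det ^ 9 = 1 := by rw [← Matrix.det_pow, h9, Matrix.det_one]
    have h2 : B'.det ≠ 0 := by
      intro h
      rw [h] at h1
      norm_num at h1
    have h4 := FiniteField.pow_card_sub_one_eq_one B'.det h2
    rwa [hF, show 2 - 1 = 1 by norm_num, pow_one] at h4
  let g : Matrix.SpecialLinearGroup (Fin 6) F := ⟨B', hdet⟩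
  have hg : (g : Matrix (Fin 6) (Fin 6) F) = B' := rfl
  refine ⟨g, ?_, ?_⟩
  · apply Subtype.ext
    have h1 := Matrix.SpecialLinearGroup.coe_pow g 9
    have h2 := Matrix.SpecialLinearGroup.coe_one (n := Fin 6) (R := F)
    exact h1.trans ((by rw [hg]; exact h9 : (g : Matrix (Fin 6) (Fin 6) F) ^ 9 = 1).trans h2.symm)
  · intro h
    have h0 : ((g ^ 3 : Matrix.SpecialLinearGroup (Fin 6) F) : Matrix (Fin 6) (Fin 6) F) = 1 := by
      rw [h]
      exact Matrix.SpecialLinearGroup.coe_one (n := Fin 6) (R := F)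
    have h1 : B' ^ 3 = 1 := (Matrix.SpecialLinearGroup.coe_pow g 3).symm.trans h0
    rw [h3] at h1
    apply C_ne
    have h2 : Function.Injective (φ.mapMatrix (m := Fin 6)) := Matrix.map_injective hφ
    apply h2
    rw [h1, map_one]

/-- an element of order nine: its cube has no fixed vectors -/
theorem eq_zero_of_fixed (hF : Fintype.card F = 2) {g : GL (Fin 6) F} (h9 : g ^ 9 = 1) (h3 : g ^ 3 ≠ 1)
    {v : Fin 6 → F} (hv : ((g ^ 3 : GL (Fin 6) F) : Matrix (Fin 6) (Fin 6) F) *ᵥ v = v) : v = 0 := by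
  classical
  haveI := charP_two hF
  set T : Matrix (Fin 6) (Fin 6) F := ((g ^ 3 : GL (Fin 6) F) : Matrix (Fin 6) (Fin 6) F) with hT
  have hT3 : T ^ 3 = 1 := by
    rw [hT, ← Units.val_pow_eq_pow_val, ← pow_mul, h9, Units.val_one]
  set D : Submodule F (Fin 6 → F) := LinearMap.range (Matrix.toLin' (T - 1)) with hD
  have hmem : ∀ w, w ∈ D ↔ ∃ a, T *ᵥ a - a = w := by
    intro w
    rw [hD, LinearMap.mem_range]
    simp [Matrix.toLin'_apply]
  have hfix : ∀ w ∈ D, T *ᵥ w = w → w = 0 := by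
    intro w hw hw1
    obtain ⟨a, rfl⟩ := (hmem w).mp hw
    set w := T *ᵥ a - a with hwd
    have h1 : (1 + T + T ^ 2) *ᵥ w = 0 := by
      have e1 : (1 + T + T ^ 2) * (T - 1) = 0 := by
        have : (1 + T + T ^ 2) * (T - 1) = T ^ 3 - 1 := by noncomm_ring
        rw [this, hT3, sub_self]
      have e2 : w = (T - 1) *ᵥ a := by rw [Matrix.sub_mulVec, Matrix.one_mulVec]
      rw [e2, Matrix.mulVec_mulVec, e1, Matrix.zero_mulVec]
    rw [Matrix.add_mulVec, Matrix.add_mulVec, Matrix.one_mulVec, pow_two, ← Matrix.mulVec_mulVec, hw1, hw1] at h1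
    have h2 : w + w = 0 := by
      rw [← two_smul F w, show (2 : F) = 0 from CharTwo.two_eq_zero, zero_smul]
    rwa [h2, zero_add] at h1
  have hginv : ∀ w ∈ D, (g : Matrix (Fin 6) (Fin 6) F) *ᵥ w ∈ D := by
    intro w hw
    obtain ⟨a, rfl⟩ := (hmem w).mp hw
    refine (hmem _).mpr ⟨(g : Matrix (Fin 6) (Fin 6) F) *ᵥ a, ?_⟩
    have e1 : T * (g : Matrix (Fin 6) (Fin 6) F) = (g : Matrix (Fin 6) (Fin 6) F) * T := by
      rw [hT, ← Units.val_mul, ← Units.val_mul, ← pow_succ, ← pow_succ']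
    rw [Matrix.mulVec_sub, Matrix.mulVec_mulVec, Matrix.mulVec_mulVec, e1]
  have hpow : ∀ (k : ℕ), ∀ w ∈ D, ((g ^ k : GL (Fin 6) F) : Matrix (Fin 6) (Fin 6) F) *ᵥ w ∈ D := by
    intro k
    induction k with
    | zero => intro w hw; simpa using hw
    | succ k ih =>
      intro w hw
      rw [pow_succ', Units.val_mul, ← Matrix.mulVec_mulVec]
      exact hginv _ (ih w hw)
  have ho : orderOf g = 9 := by
    haveI : Fact (Nat.Prime 3) := ⟨Nat.prime_three⟩
    have := orderOf_eq_prime_pow (x := g) (p := 3) (n := 1) (by simpa using h3) (by simpa using h9)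
    simpa using this
  have hz : ∀ a ∈ Subgroup.zpowers g, ∃ k : ℕ, k < 9 ∧ a = g ^ k := by
    intro a ha
    obtain ⟨k, hk, hka⟩ := (mem_zpowers_iff_mem_range_orderOf.mp ha : a ∈ (Finset.range (orderOf g)).image (g ^ ·)) |> Finset.mem_image.mp
    rw [ho, Finset.mem_range] at hk
    exact ⟨k, hk, hka.symm⟩
  let X := {w : Fin 6 → F // w ∈ D ∧ w ≠ 0}
  let act : MulAction (Subgroup.zpowers g) X :=
    { smul := fun a w => ⟨((a : GL (Fin 6) F) : Matrix (Fin 6) (Fin 6) F) *ᵥ w.1, by
        obtain ⟨k, -, hk⟩ := hz a a.2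
        rw [hk]
        exact hpow k _ w.2.1, by
        intro h0
        apply w.2.2
        have : (((a⁻¹ : Subgroup.zpowers g) : GL (Fin 6) F) : Matrix (Fin 6) (Fin 6) F) *ᵥ
            (((a : GL (Fin 6) F) : Matrix (Fin 6) (Fin 6) F) *ᵥ w.1) = w.1 := by
          rw [Matrix.mulVec_mulVec, ← Units.val_mul, ← Subgroup.coe_mul, inv_mul_cancel, Subgroup.coe_one,
            Units.val_one, Matrix.one_mulVec]
        rw [← this, h0, Matrix.mulVec_zero]⟩
      one_smul := fun w => Subtype.ext (by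
        show (((1 : Subgroup.zpowers g) : GL (Fin 6) F) : Matrix (Fin 6) (Fin 6) F) *ᵥ w.1 = w.1
        rw [Subgroup.coe_one, Units.val_one, Matrix.one_mulVec])
      mul_smul := fun a b w => Subtype.ext (by
        show (((a * b : Subgroup.zpowers g) : GL (Fin 6) F) : Matrix (Fin 6) (Fin 6) F) *ᵥ w.1 =
          ((a : GL (Fin 6) F) : Matrix (Fin 6) (Fin 6) F) *ᵥ (((b : GL (Fin 6) F) : Matrix (Fin 6) (Fin 6) F) *ᵥ w.1)
        rw [Subgroup.coe_mul, Units.val_mul, Matrix.mulVec_mulVec]) }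
  have hdvd : Nat.card (Subgroup.zpowers g) ∣ Nat.card X := by
    refine Cfsg.Agent.SuzukiRankOne.Translation.card_dvd_of_free (H := Subgroup.zpowers g) (X := X) ?_
    intro a w haw
    obtain ⟨k, hk9, hk⟩ := hz a a.2
    have h1 : ((g ^ k : GL (Fin 6) F) : Matrix (Fin 6) (Fin 6) F) *ᵥ w.1 = w.1 := by
      rw [← hk]
      exact congrArg Subtype.val haw
    have h2 : ∀ m : ℕ, ((g ^ (k * m) : GL (Fin 6) F) : Matrix (Fin 6) (Fin 6) F) *ᵥ w.1 = w.1 := by
      intro m
      induction m with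
      | zero => simp
      | succ m ih =>
        rw [mul_add, mul_one, pow_add, Units.val_mul, ← Matrix.mulVec_mulVec, h1, ih]
    by_contra hne
    have hk0 : k ≠ 0 := by
      rintro rfl
      apply hne
      apply Subtype.ext
      rw [hk, pow_zero, Subgroup.coe_one]
    obtain ⟨m, hm⟩ : ∃ m, (k * m) % 9 = 3 := by
      interval_cases k
      · exact absurd rfl hk0
      · exact ⟨3, rfl⟩
      · exact ⟨6, rfl⟩
      · exact ⟨1, rfl⟩
      · exact ⟨3, rfl⟩
      · exact ⟨6, rfl⟩
      · exact ⟨2, rfl⟩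
      · exact ⟨3, rfl⟩
      · exact ⟨6, rfl⟩
    have h4 := h2 m
    have h5 : g ^ (k * m) = g ^ 3 := by
      rw [← hm, ← ho, pow_mod_orderOf]
    rw [h5] at h4
    exact w.2.2 (hfix _ w.2.1 h4)
  have hcardX : Nat.card X = 2 ^ Module.finrank F D - 1 := by
    have h1 : Nat.card D = 2 ^ Module.finrank F D := by
      rw [Module.natCard_eq_pow_finrank (K := F), Nat.card_eq_fintype_card, hF]
    have e : X ≃ {w : D // w ≠ 0} :=
      { toFun := fun w => ⟨⟨w.1, w.2.1⟩, fun h => w.2.2 (congrArg Subtype.val h)⟩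
        invFun := fun w => ⟨w.1.1, w.1.2, fun h => w.2 (Subtype.ext h)⟩
        left_inv := fun w => rfl
        right_inv := fun w => rfl }
    rw [Nat.card_congr e, ← h1, Nat.card_eq_fintype_card, Nat.card_eq_fintype_card, Fintype.card_subtype_compl,
      Fintype.card_subtype_eq]
  rw [Nat.card_zpowers, ho, hcardX] at hdvd
  have hd6 : Module.finrank F D ≤ 6 := by
    have := Submodule.finrank_le D
    rwa [Module.finrank_fintype_fun_eq_card, Fintype.card_fin] at this
  have hD0 : D ≠ ⊥ := by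
    intro h0
    apply h3
    apply Units.ext
    rw [← hT, Units.val_one]
    have : Matrix.toLin' (T - 1) = 0 := LinearMap.range_eq_bot.mp h0
    have h6 : T - 1 = 0 := by
      apply (Matrix.toLin' (R := F) (m := Fin 6) (n := Fin 6)).injective
      rw [this, map_zero]
    exact sub_eq_zero.mp h6
  have hd0 : Module.finrank F D ≠ 0 := fun h => hD0 (Submodule.finrank_eq_zero.mp h)
  have hd : Module.finrank F D = 6 := by
    generalize Module.finrank F D = d at hdvd hd6 hd0
    interval_cases d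
    · exact absurd rfl hd0
    · norm_num at hdvd
    · norm_num at hdvd
    · norm_num at hdvd
    · norm_num at hdvd
    · norm_num at hdvd
    · rfl
  have hDtop : D = ⊤ := by
    apply Submodule.eq_top_of_finrank_eq
    rw [hd, Module.finrank_fintype_fun_eq_card, Fintype.card_fin]
  exact hfix v (by rw [hDtop]; trivial) hv

/-- elements of order three in the stabiliser of a point or a hyperplane have fixed vectors -/
theorem exists_fixed (hF : Fintype.card F = 2) {t : GL (Fin 6) F} (ht : t ^ 3 = 1) {W : Submodule F (Fin 6 → F)}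
    (hW : Module.finrank F W = 1 ∨ Module.finrank F W = 5) (htW : t ∈ subspaceStabilizer W) :
    ∃ v : Fin 6 → F, v ≠ 0 ∧ (t : Matrix (Fin 6) (Fin 6) F) *ᵥ v = v := by
  classical
  haveI := charP_two hF
  have htwo : ∀ {α : Type _} [Fintype α] (c a b : α), Fintype.card α = 2 → a ≠ c → b ≠ c → a = b := by
    intro α _ c a b h ha hb
    by_contra hab
    have h1 : ({a, b, c} : Finset α).card = 3 := by
      rw [Finset.card_insert_of_notMem (by simp [hab, ha]), Finset.card_insert_of_notMem (by simp [hb]),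
        Finset.card_singleton]
    have h2 := Finset.card_le_univ ({a, b, c} : Finset α)
    omega
  rcases hW with hW | hW
  · have hcard : Fintype.card W = 2 := by
      rw [Module.card_eq_pow_finrank (K := F), hW, hF, pow_one]
    obtain ⟨w, hw0⟩ : ∃ w : W, w ≠ 0 := by
      haveI : Nontrivial W := Fintype.one_lt_card_iff_nontrivial.mp (by omega)
      exact exists_ne 0
    refine ⟨w, fun h => hw0 (Subtype.ext h), ?_⟩
    have h1 : (t : Matrix (Fin 6) (Fin 6) F) *ᵥ (w : Fin 6 → F) ∈ W := (htW w).mp w.2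
    have h2 : (⟨_, h1⟩ : W) ≠ 0 := by
      intro h
      have h3 : (t : Matrix (Fin 6) (Fin 6) F) *ᵥ (w : Fin 6 → F) = 0 := congrArg Subtype.val h
      apply hw0
      apply Subtype.ext
      have : ((t⁻¹ : GL (Fin 6) F) : Matrix (Fin 6) (Fin 6) F) *ᵥ ((t : Matrix (Fin 6) (Fin 6) F) *ᵥ (w : Fin 6 → F)) = w := by
        rw [Matrix.mulVec_mulVec, ← Units.val_mul, inv_mul_cancel, Units.val_one, Matrix.one_mulVec]
      rw [← this, h3, Matrix.mulVec_zero]
      rfl
    exact congrArg Subtype.val (htwo 0 ⟨_, h1⟩ w hcard h2 hw0)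
  · have hfq : Module.finrank F ((Fin 6 → F) ⧸ W) = 1 := by
      have := Submodule.finrank_quotient_add_finrank W
      rw [Module.finrank_fintype_fun_eq_card, Fintype.card_fin, hW] at this
      omega
    haveI : Fintype ((Fin 6 → F) ⧸ W) := Fintype.ofFinite _
    have hcard : Fintype.card ((Fin 6 → F) ⧸ W) = 2 := by
      rw [Module.card_eq_pow_finrank (K := F), hfq, hF, pow_one]
    obtain ⟨v, hv⟩ : ∃ v, v ∉ W := by
      by_contra h
      push Not at h
      have : W = ⊤ := (Submodule.eq_top_iff').mpr h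
      rw [this, finrank_top, Module.finrank_fintype_fun_eq_card, Fintype.card_fin] at hW
      omega
    set T : Matrix (Fin 6) (Fin 6) F := (t : Matrix (Fin 6) (Fin 6) F) with hT
    have hT3 : T ^ 3 = 1 := by rw [hT, ← Units.val_pow_eq_pow_val, ht, Units.val_one]
    have h1 : ∀ w, w ∉ W → T *ᵥ w - w ∈ W := by
      intro w hw
      have h2 : T *ᵥ w ∉ W := fun h => hw ((htW w).mpr h)
      have h3 := htwo (0 : (Fin 6 → F) ⧸ W) (Submodule.Quotient.mk (T *ᵥ w)) (Submodule.Quotient.mk w) hcard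
        (fun h => h2 ((Submodule.Quotient.mk_eq_zero W).mp h)) (fun h => hw ((Submodule.Quotient.mk_eq_zero W).mp h))
      exact (Submodule.Quotient.eq W).mp h3
    have h2 : T *ᵥ v ∉ W := fun h => hv ((htW v).mpr h)
    refine ⟨v + T *ᵥ v + T *ᵥ (T *ᵥ v), ?_, ?_⟩
    · intro h0
      apply h2
      have h3 := h1 _ h2
      have h4 : T *ᵥ v = (v + T *ᵥ v + T *ᵥ (T *ᵥ v)) - (T *ᵥ (T *ᵥ v) - T *ᵥ v) + (T *ᵥ v - v) - (T *ᵥ v + T *ᵥ v) := by
        abel
      have h5 : T *ᵥ v + T *ᵥ v = 0 := by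
        rw [← two_smul F (T *ᵥ v), show (2 : F) = 0 from CharTwo.two_eq_zero, zero_smul]
      rw [h4, h0, h5, sub_zero, zero_sub]
      exact W.add_mem (W.neg_mem h3) (h1 v hv)
    · rw [Matrix.mulVec_add, Matrix.mulVec_add]
      have h3 : T *ᵥ (T *ᵥ (T *ᵥ v)) = v := by
        rw [Matrix.mulVec_mulVec, Matrix.mulVec_mulVec, ← pow_two, ← pow_succ, hT3, Matrix.one_mulVec]
      rw [h3]
      abel

theorem pr_injective (hF : Fintype.card F = 2) {n : ℕ} : Function.Injective (pr n F) := by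
  rw [injective_iff_map_eq_one]
  intro a ha
  have h1 : a ∈ Subgroup.center (Matrix.SpecialLinearGroup (Fin n) F) := (QuotientGroup.eq_one_iff a).mp ha
  rw [Matrix.SpecialLinearGroup.mem_center_iff] at h1
  obtain ⟨r, hr, hra⟩ := h1
  by_cases hr0 : r = 0
  · rw [hr0] at hr
    rcases Nat.eq_zero_or_pos n with h0 | h0
    · subst h0
      exact Subsingleton.elim _ _
    · rw [Fintype.card_fin, zero_pow h0.ne'] at hr
      exact absurd hr zero_ne_one
  · have h4 := FiniteField.pow_card_sub_one_eq_one r hr0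
    rw [hF, show 2 - 1 = 1 by norm_num, pow_one] at h4
    apply Subtype.ext
    rw [← hra, h4]
    simp

/-- **the point and hyperplane stabilisers of `PSL_6(2)`** -/
theorem der {F : Type*} [Field F] [Fintype F] (hF : Fintype.card F = 2)
    {M : Subgroup (Matrix.ProjectiveSpecialLinearGroup (Fin 6) F)} {W : Submodule F (Fin 6 → F)}
    (hW : Module.finrank F W = 1 ∨ Module.finrank F W = 5) (hM : pre M ≤ subspaceStabilizer W) :
    Cfsg.Agent.H396.Der (Matrix.ProjectiveSpecialLinearGroup (Fin 6) F) M := by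
  obtain ⟨g, h9, h3⟩ := exists_nine hF
  have hinj := pr_injective (n := 6) hF
  refine ⟨pr 6 F g ^ 3, ?_, ?_⟩
  · have : orderOf (pr 6 F g ^ 3) = 3 := by
      haveI : Fact (Nat.Prime 3) := ⟨Nat.prime_three⟩
      refine orderOf_eq_prime ?_ ?_
      · rw [← pow_mul, ← map_pow, h9, map_one]
      · rw [← map_pow]
        intro h
        exact h3 (hinj (by rw [h, map_one]))
    rw [this]
    exact Nat.prime_three
  · intro φ hφ
    obtain ⟨a, ha⟩ := QuotientGroup.mk'_surjective (Subgroup.center (Matrix.SpecialLinearGroup (Fin 6) F)) (φ (pr 6 F g))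
    have ha9 : a ^ 9 = 1 := by
      apply hinj
      rw [map_pow, map_one]
      show pr 6 F a ^ 9 = 1
      rw [show pr 6 F a = φ (pr 6 F g) from ha, ← map_pow, ← map_pow, h9, map_one, map_one]
    have ha3 : a ^ 3 ≠ 1 := by
      intro h
      have h1 : φ (pr 6 F g) ^ 3 = 1 := by
        rw [← ha]
        show pr 6 F a ^ 3 = 1
        rw [← map_pow, h, map_one]
      rw [← map_pow, ← map_pow] at h1
      have h2 : pr 6 F (g ^ 3) = 1 := φ.injective (by rw [h1, map_one])
      exact h3 (hinj (by rw [h2, map_one]))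
    have hmem : Matrix.SpecialLinearGroup.toGL (a ^ 3) ∈ pre M := by
      refine ⟨a ^ 3, ?_, rfl⟩
      show pr 6 F (a ^ 3) ∈ M
      rw [map_pow, show pr 6 F a = φ (pr 6 F g) from ha, ← map_pow]
      exact hφ
    set b := Matrix.SpecialLinearGroup.toGL a with hb
    have hb9 : b ^ 9 = 1 := by rw [hb, ← map_pow, ha9, map_one]
    have hb3 : b ^ 3 ≠ 1 := by
      intro h
      apply ha3
      apply toGL_injective
      rw [map_pow, map_one]
      exact h
    obtain ⟨v, hv0, hv⟩ := exists_fixed hF (t := b ^ 3) (by rw [← pow_mul]; exact hb9) hW (by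
      have := hM hmem
      rwa [map_pow] at this)
    exact hv0 (eq_zero_of_fixed hF hb9 hb3 hv)

end Cfsg.Agent.H304.L62

namespace Cfsg.Agent.H304.GeoL

open Matrix Cfsg Cfsg.Geo Cfsg.Agent.H304.PslT

/-- **Row EL-GEO-L, final form**: every geometric maximal subgroup `M` of `PSL_n(q)`, `n ≥ 3`, misses an
`Aut`-class of elements of prime order. -/
theorem der_or_residual {F : Type*} [Field F] [Fintype F] {n : ℕ} (hn : 3 ≤ n)
    {M : Subgroup (Matrix.ProjectiveSpecialLinearGroup (Fin n) F)} (hM : IsCoatom M) :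
    Cfsg.Agent.H396.Der (Matrix.ProjectiveSpecialLinearGroup (Fin n) F) M ∨ InLinearResidualClass (pre M) := by
  rcases geo hn hM with ⟨u, hu, h1, h2⟩ | ⟨hF, rfl, W, hW, h⟩ | h
  · left
    haveI : Finite (Matrix.ProjectiveSpecialLinearGroup (Fin n) F) := by
      classical
      exact Quotient.finite _
    exact Cfsg.Agent.H396.der_of_prime hu h1 h2
  · exact Or.inl (L62.der hF hW (h.le.trans inf_le_left))
  · exact Or.inr h

end Cfsg.Agent.H304.GeoL
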