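import Cfsg.Agent.H304.PslRes
import Cfsg.Agent.H304.L62
import Cfsg.Agent.H753.ResCard
import Cfsg.Agent.S5776

/-!
# `ClMaxA` for `PSL_3(q)`, all `q` (helper304, TEAM ELUSIVE)
-/

set_option autoImplicit false
set_option linter.style.haveILetI false

namespace Cfsg.Agent.H304.Psl3

open Matrix Cfsg Cfsg.Geo Cfsg.Agent.H304.PslT Cfsg.Agent.H728.DghpNum

theorem card_mulAut_L32 : Nat.card (MulAut (Matrix.ProjectiveSpecialLinearGroup (Fin 3) (ZMod 2))) = 336 := by
  haveI : Fact (Nat.Prime 2) := ⟨Nat.prime_two⟩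
  have h1 := Cfsg.Agent.S0813.result (F := ZMod 2) 2 1 le_rfl (by rw [ZMod.card]; norm_num) 3 (by norm_num) (by norm_num)
  have h2 := Cfsg.Agent.ClassicalGeometry.PSL2Basic.card_PGL_mul (Fin 3) (ZMod 2)
  rw [Matrix.card_GL_field] at h2
  have h3 : Nat.card (Matrix.ProjGenLinGroup (Fin 3) (ZMod 2)) = 168 := by
    have e1 : ∏ i : Fin 3, (Fintype.card (ZMod 2) ^ 3 - Fintype.card (ZMod 2) ^ (i : ℕ)) = 168 := by
      rw [ZMod.card]; rfl
    have e2 : Fintype.card (ZMod 2) - 1 = 1 := by rw [ZMod.card]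
    rw [e1] at h2
    simpa [e2] using h2
  rw [h1, h3]
  norm_num

/-- the missing prime of a residual maximal subgroup of `PSL_3(q)` -/
theorem residual {F : Type*} [Field F] [Fintype F] {M : Subgroup (Matrix.ProjectiveSpecialLinearGroup (Fin 3) F)}
    (hM : IsCoatom M) (hS : InLinearResidualClass (pre M)) : GeoL.Miss M := by
  obtain ⟨P, p, hcore, hp, hchar, hcases⟩ := Cfsg.Agent.S5776.result (pre M) (isMaximalIn_pre hM) hS
  have hcard := card_dvd_mulAut (by norm_num) hcore
  rcases hcases with ⟨⟨e⟩, hF, hp2, hp7⟩ | ⟨⟨e⟩, hF⟩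
  · rw [Nat.card_congr (MulAut.congr e).toEquiv, card_mulAut_L32] at hcard
    refine ⟨p, hp, char_dvd_card hp (by rw [hF]) (by norm_num), fun hd => ?_⟩
    have h1 : p ∣ 336 := hd.trans hcard
    have h2 : p ∣ 2 ^ 4 * (3 * 7) := by norm_num; exact h1
    rcases hp.dvd_mul.mp h2 with h3 | h3
    · have := (Nat.prime_dvd_prime_iff_eq hp Nat.prime_two).mp (hp.dvd_of_dvd_pow h3)
      omega
    · rcases hp.dvd_mul.mp h3 with h4 | h4
      · have := (Nat.prime_dvd_prime_iff_eq hp Nat.prime_three).mp h4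
        omega
      · have := (Nat.prime_dvd_prime_iff_eq hp (by norm_num)).mp h4
        omega
  · rw [Nat.card_congr (MulAut.congr e).toEquiv] at hcard
    have hcard2 := hcard.trans H753.ResCard.card_mulAut_A6
    have key : ∀ u : ℕ, u.Prime → u ∣ Nat.card M → u = 2 ∨ u = 3 ∨ u = 5 := by
      intro u hu hd
      have h2 : u ∣ 2 ^ 5 * (3 ^ 2 * 5) := by norm_num; exact hd.trans hcard2
      rcases hu.dvd_mul.mp h2 with h3 | h3
      · exact Or.inl ((Nat.prime_dvd_prime_iff_eq hu Nat.prime_two).mp (hu.dvd_of_dvd_pow h3))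
      · rcases hu.dvd_mul.mp h3 with h4 | h4
        · exact Or.inr (Or.inl ((Nat.prime_dvd_prime_iff_eq hu Nat.prime_three).mp (hu.dvd_of_dvd_pow h4)))
        · exact Or.inr (Or.inr ((Nat.prime_dvd_prime_iff_eq hu (by norm_num)).mp h4))
    rcases hF with ⟨hF, h15⟩ | ⟨hF, hp3, h5⟩
    · refine ⟨p, hp, char_dvd_card hp (by rw [hF]) (by norm_num), fun hd => ?_⟩
      have := key p hp hd
      omega
    · by_cases hp2 : p = 2
      · subst hp2
        have h4 : Fintype.card F = 4 := by rw [hF]; norm_num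
        obtain ⟨u, hu⟩ := exists_ppd (q := 4) (e := 3) (by norm_num) le_rfl (by norm_num)
        refine ⟨u, hu.prime, dvd_card (e := 3) (by norm_num) le_rfl (by rw [h4]; exact hu), fun hd => ?_⟩
        have h6 := hu.lt
        have h7 := (hu.dvd_iff 3).mpr dvd_rfl
        rcases key u hu.prime hd with h8 | h8 | h8
        · omega
        · omega
        · rw [h8] at h7
          norm_num at h7
      · refine ⟨p, hp, char_dvd_card hp (by rw [hF]; exact dvd_pow_self p two_ne_zero) (by norm_num), fun hd => ?_⟩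
        have := key p hp hd
        omega

/-- every maximal subgroup of `PSL_3(q)` misses a prime -/
theorem miss {F : Type*} [Field F] [Fintype F] {M : Subgroup (Matrix.ProjectiveSpecialLinearGroup (Fin 3) F)}
    (hM : IsCoatom M) : GeoL.Miss M := by
  rcases GeoL.geo le_rfl hM with h | ⟨-, h, -⟩ | h
  · exact h
  · omega
  · exact residual hM h

theorem clMaxA {F : Type*} [Field F] [Fintype F] :
    Cfsg.Agent.H278.El.ClMaxA (Matrix.ProjectiveSpecialLinearGroup (Fin 3) F) := by
  intro M hM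
  obtain ⟨u, hu, h1, h2⟩ := miss hM
  haveI : Finite (Matrix.ProjectiveSpecialLinearGroup (Fin 3) F) := by
    classical
    exact Quotient.finite _
  exact Cfsg.Agent.H396.der_of_prime hu h1 h2

end Cfsg.Agent.H304.Psl3
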