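import Cfsg.Agent.H304.PpdForm
import Cfsg.Agent.H914.Sub
import Cfsg.Agent.H396.ClEngine

/-!
# Elements of primitive prime order in the members of Aschbacher's classes 1 and 8 (helper304, TEAM ELUSIVE)
-/

set_option autoImplicit false
set_option linter.style.haveILetI false

namespace Cfsg.Agent.H304.Ppd

open Matrix Cfsg Cfsg.Geo Cfsg.Agent.H728.DghpNum

variable {ι : Type} [Fintype ι] [DecidableEq ι] {F : Type*} [Field F] [Fintype F]

/-- class 1 -/
theorem le_finrank_of_mem_stabilizer {u e : ℕ} (hP : Ppd (Fintype.card F) e u) {x : GL ι F} (hx : orderOf x = u)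
    {W : Submodule F (ι → F)} (hxW : ∀ w ∈ W, (x : Matrix ι ι F) *ᵥ w ∈ W) :
    e ≤ Module.finrank F W ∨ Module.finrank F W + e ≤ Fintype.card ι := by
  obtain ⟨p, hp⟩ := CharP.exists F
  haveI : Fact p.Prime := ⟨CharP.char_is_prime F p⟩
  by_contra hcon
  push Not at hcon
  have hup : u ≠ p := by
    rintro rfl
    obtain ⟨k, -, hk⟩ := FiniteField.card F u
    apply hP.ndvd
    rw [hk]
    exact dvd_pow_self u k.ne_zero
  refine Cfsg.Agent.H396.Cl.false_of_chain (p := p) (H := GL ι F) (F := F) (ι := ι) (Units.coeHom (Matrix ι ι F)) Units.val_injective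
    hP.prime hup hx (R := W) (S := W) le_rfl hxW hxW (d := e) ?_ hcon.1 ?_ hcon.2
  · intro i h1 h2 h3
    rw [Nat.card_eq_fintype_card, hP.dvd_iff] at h3
    exact absurd (Nat.le_of_dvd h1 h3) (by omega)
  · have := hP.pos
    omega

omit [Fintype F] in
theorem mem_of_subspaceStabilizer {W : Submodule F (ι → F)} {x : GL ι F} (hx : x ∈ subspaceStabilizer W) :
    ∀ w ∈ W, (x : Matrix ι ι F) *ᵥ w ∈ W := by
  intro w hw
  exact (hx w).mp hw

/-- the multiplier of an element of primitive prime order is trivial -/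
theorem multiplier_eq_one {u e : ℕ} (hP : Ppd (Fintype.card F) e u) (he : 2 ≤ e) {x : GL ι F} (hx : orderOf x = u)
    {f : (ι → F) → (ι → F) → F} (hne : ∃ a b, f a b ≠ 0) {c : Fˣ}
    (h : ∀ a b, f ((x : Matrix ι ι F) *ᵥ a) ((x : Matrix ι ι F) *ᵥ b) = (c : F) * f a b) : c = 1 := by
  have h1 : ∀ k : ℕ, ∀ a b, f (((x ^ k : GL ι F) : Matrix ι ι F) *ᵥ a) (((x ^ k : GL ι F) : Matrix ι ι F) *ᵥ b) =
      ((c ^ k : Fˣ) : F) * f a b := by
    intro k
    induction k with
    | zero => intro a b; simp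
    | succ k ih =>
      intro a b
      rw [pow_succ', Units.val_mul, ← Matrix.mulVec_mulVec, ← Matrix.mulVec_mulVec, h, ih, pow_succ', Units.val_mul,
        mul_assoc]
  obtain ⟨a, b, hab⟩ := hne
  have h2 := h1 u a b
  rw [← hx, pow_orderOf_eq_one, hx, Units.val_one, Matrix.one_mulVec, Matrix.one_mulVec] at h2
  have h3 : ((c ^ u : Fˣ) : F) = 1 := by
    have : (((c ^ u : Fˣ) : F) - 1) * f a b = 0 := by rw [sub_mul, one_mul, ← h2, sub_self]
    exact sub_eq_zero.mp ((mul_eq_zero.mp this).resolve_right hab)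
  have h4 : c ^ u = 1 := Units.ext h3
  have h5 : orderOf c ∣ u := orderOf_dvd_of_pow_eq_one h4
  have h6 : orderOf c ∣ Fintype.card F - 1 := by
    have := _root_.orderOf_dvd_natCard c
    rwa [Nat.card_units, Nat.card_eq_fintype_card] at this
  rcases (Nat.dvd_prime hP.prime).mp h5 with h7 | h7
  · exact orderOf_eq_one_iff.mp h7
  · exfalso
    rw [h7] at h6
    have := (hP.dvd_iff 1).mp (by rwa [pow_one])
    exact absurd (Nat.le_of_dvd one_pos this) (by omega)

omit [Fintype ι] [DecidableEq ι] [Fintype F] in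
theorem exists_ne_zero [Nonempty ι] {f : (ι → F) → (ι → F) → F} (hf : IsNondegenerateForm f) :
    ∃ a b, f a b ≠ 0 := by
  obtain ⟨v, hv⟩ : ∃ v : ι → F, v ≠ 0 := exists_ne 0
  obtain ⟨⟨a, ha⟩, -⟩ := hf v hv
  exact ⟨a, v, ha⟩

/-- class 8, bilinear forms -/
theorem even_of_bilinear [Nonempty ι] {u e : ℕ} (hP : Ppd (Fintype.card F) e u) (he : 2 ≤ e)
    (hn : Fintype.card ι < 2 * e) {x : GL ι F} (hx : orderOf x = u) {f : (ι → F) → (ι → F) → F}
    (hf : IsBilinearForm f) (hfn : IsNondegenerateForm f) (hxf : x ∈ similarityGroup f) : Even e := by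
  obtain ⟨c, hc⟩ := hxf
  have hc1 := multiplier_eq_one hP he hx (exists_ne_zero hfn) hc
  have hs := H914.IsSesq.of_bilinear hf
  have h1 := H914.fixes_gram hs (M := (x : Matrix ι ι F)) (fun a b => by rw [hc, hc1, Units.val_one, one_mul])
  refine even_of_gram hP.prime ?_ hP.ord hP.ndvd hn hx (H914.det_gram_ne_zero hs hfn) (G := gramMatrix f) ?_
  · have := hP.lt
    omega
  · simpa using h1

/-- class 8, quadratic forms -/
theorem even_of_quadratic [Nonempty ι] {u e : ℕ} (hP : Ppd (Fintype.card F) e u) (he : 2 ≤ e)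
    (hn : Fintype.card ι < 2 * e) {x : GL ι F} (hx : orderOf x = u) {Q : (ι → F) → F}
    (hQ : IsNondegenerateQuadraticForm Q) (hxQ : x ∈ quadSimilarityGroup Q) : Even e := by
  refine even_of_bilinear hP he hn hx hQ.polar_bilinear hQ.nondegenerate ?_
  obtain ⟨c, hc⟩ := hxQ
  refine ⟨c, fun a b => ?_⟩
  rw [QuadraticMap.polar, QuadraticMap.polar, ← Matrix.mulVec_add, hc, hc, hc]
  ring

/-- an involutory automorphism of a finite field -/
theorem exists_frobenius {σ : F ≃+* F} (hne : σ ≠ RingEquiv.refl F) (hinv : ∀ a, σ (σ a) = a) :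
    ∃ p k : ℕ, p.Prime ∧ CharP F p ∧ Fintype.card F = (p ^ k) ^ 2 ∧ ∀ a, σ a = a ^ p ^ k := by
  obtain ⟨p, hp⟩ := CharP.exists F
  haveI : Fact p.Prime := ⟨CharP.char_is_prime F p⟩
  letI : Algebra (ZMod p) F := ZMod.algebra F p
  let s : F →ₐ[ZMod p] F := { σ.toRingHom with
    commutes' := fun r => by
      show σ (algebraMap (ZMod p) F r) = algebraMap (ZMod p) F r
      have : (σ.toRingHom.comp (algebraMap (ZMod p) F)) = algebraMap (ZMod p) F := Subsingleton.elim _ _
      exact RingHom.congr_fun this r }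
  obtain ⟨k, hk⟩ := (FiniteField.bijective_frobeniusAlgHom_pow (ZMod p) F).2 s
  have hk' : ∀ a, σ a = a ^ p ^ (k : ℕ) := by
    intro a
    have h1 := DFunLike.congr_fun hk a
    simp only at h1
    rw [AlgHom.coe_pow, FiniteField.coe_frobeniusAlgHom, pow_iterate, ZMod.card] at h1
    exact h1.symm
  have hcard : Fintype.card F = p ^ Module.finrank (ZMod p) F := by
    have := Module.card_eq_pow_finrank (K := ZMod p) (V := F)
    rwa [ZMod.card] at this
  have hsq : ∀ a : F, a ^ p ^ (2 * (k : ℕ)) = a := by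
    intro a
    have h1 := hinv a
    rw [hk', hk', ← pow_mul, ← pow_add] at h1
    rw [two_mul]
    exact h1
  refine ⟨p, k, Fact.out, hp, ?_, hk'⟩
  have h1 : (FiniteField.frobeniusAlgHom (ZMod p) F) ^ (2 * (k : ℕ)) = 1 := by
    apply AlgHom.ext
    intro a
    rw [AlgHom.coe_pow, FiniteField.coe_frobeniusAlgHom, pow_iterate, ZMod.card]
    exact hsq a
  have h2 : Module.finrank (ZMod p) F ∣ 2 * (k : ℕ) := by
    have := orderOf_dvd_of_pow_eq_one h1
    rwa [FiniteField.orderOf_frobeniusAlgHom (ZMod p) F] at this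
  have h3 : (k : ℕ) < Module.finrank (ZMod p) F := k.2
  have h4 : (k : ℕ) ≠ 0 := by
    intro h0
    apply hne
    ext a
    rw [hk', h0]
    simp
  have h5 : 2 * (k : ℕ) = Module.finrank (ZMod p) F := by
    obtain ⟨m, hm⟩ := h2
    have h6 : 0 < m := by
      rcases Nat.eq_zero_or_pos m with h0 | h0
      · rw [h0] at hm; omega
      · exact h0
    have h7 : m < 2 := by
      by_contra h8
      push Not at h8
      have : Module.finrank (ZMod p) F * 2 ≤ 2 * (k : ℕ) := by
        rw [hm]; exact Nat.mul_le_mul_left _ h8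
      omega
    have h8 : m = 1 := by omega
    rw [h8, mul_one] at hm
    exact hm
  have h9 : p ^ Module.finrank (ZMod p) F = p ^ ((k : ℕ) * 2) := by
    rw [mul_comm]; exact (congrArg (p ^ ·) h5).symm
  rw [hcard, h9, pow_mul]

/-- class 8, unitary forms -/
theorem odd_of_unitary [Nonempty ι] {u e p k : ℕ} [Fact p.Prime] [CharP F p] (hF : Fintype.card F = (p ^ k) ^ 2)
    (hP : Ppd (p ^ k) (2 * e) u) (he : 2 ≤ e)
    (hn : Fintype.card ι < 2 * e) {x : GL ι F} (hx : orderOf x = u) {σ : F ≃+* F} (hσ : ∀ a, σ a = a ^ p ^ k)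
    {f : (ι → F) → (ι → F) → F} (hf : IsUnitaryForm σ f) (hxf : x ∈ similarityGroup f) : Odd e := by
  have hPq : Ppd (Fintype.card F) e u := by
    rw [hF]
    have := hP.pow 2 two_ne_zero
    rwa [Nat.gcd_comm, Nat.gcd_mul_right_right, Nat.mul_div_cancel_left _ (by norm_num)] at this
  obtain ⟨c, hc⟩ := hxf
  have hc1 := multiplier_eq_one hPq he hx (exists_ne_zero hf.nondegenerate) hc
  have hs := H914.IsSesq.of_unitary hf
  have h1 := H914.fixes_gram hs (M := (x : Matrix ι ι F)) (fun a b => by rw [hc, hc1, Units.val_one, one_mul])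
  have h2 : (x : Matrix ι ι F).map σ = (x : Matrix ι ι F).map (fun a => a ^ p ^ k) := by
    ext i j
    exact hσ _
  rw [h2] at h1
  exact odd_of_gram hF hP.prime hP.ord (by omega) hPq.ndvd hn hx (H914.det_gram_ne_zero hs hf.nondegenerate) h1

end Cfsg.Agent.H304.Ppd
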