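import Cfsg.Agent.H304.PslTransfer
import Cfsg.Agent.H900.SU4.Base

/-!
# Residual maximal subgroups of `PSL_n(F)`: the order divides `|Aut(S)|` (helper304, TEAM ELUSIVE)
-/

set_option autoImplicit false
set_option linter.style.haveILetI false

namespace Cfsg.Agent.H304.PslT

open Matrix Cfsg Cfsg.Geo

variable {F : Type*} [Field F] {n : ℕ}

theorem center_iff {a : Matrix.SpecialLinearGroup (Fin n) F} (hn : 0 < n) :
    a ∈ Subgroup.center (Matrix.SpecialLinearGroup (Fin n) F) ↔
      Matrix.SpecialLinearGroup.toGL a ∈ scalars (Fin n) F := by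
  rw [Matrix.SpecialLinearGroup.mem_center_iff, mem_scalars_iff]
  constructor
  · rintro ⟨r, hr, hra⟩
    have hr0 : r ≠ 0 := by
      rintro rfl
      rw [Fintype.card_fin, zero_pow hn.ne'] at hr
      exact zero_ne_one hr
    refine ⟨Units.mk0 r hr0, ?_⟩
    show (a : Matrix (Fin n) (Fin n) F) = r • 1
    rw [← hra, Matrix.smul_one_eq_diagonal]
    rfl
  · rintro ⟨c, hc⟩
    have hc' : (a : Matrix (Fin n) (Fin n) F) = (c : F) • 1 := hc
    refine ⟨c, ?_, ?_⟩
    · have h1 := a.2
      rw [hc', Matrix.det_smul, Matrix.det_one, mul_one] at h1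
      exact h1
    · rw [hc', Matrix.smul_one_eq_diagonal]
      rfl

/-- `pre M` modulo scalars is `M` -/
theorem exists_pre_equiv (hn : 0 < n) (M : Subgroup (Matrix.ProjectiveSpecialLinearGroup (Fin n) F)) :
    Nonempty ((pre M ⧸ (scalars (Fin n) F).subgroupOf (pre M)) ≃* M) := by
  -- `M.comap pr ≃* pre M`
  let e1 : (M.comap (pr n F)) ≃* pre M :=
    (M.comap (pr n F)).equivMapOfInjective Matrix.SpecialLinearGroup.toGL toGL_injective
  let f : (M.comap (pr n F)) →* M := (pr n F).subgroupComap M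
  have hf : Function.Surjective f := MonoidHom.subgroupComap_surjective_of_surjective _ _ (QuotientGroup.mk'_surjective _)
  let g : pre M →* M := f.comp e1.symm.toMonoidHom
  have hg : Function.Surjective g := hf.comp e1.symm.surjective
  have hker : g.ker = (scalars (Fin n) F).subgroupOf (pre M) := by
    ext x
    rw [MonoidHom.mem_ker, Subgroup.mem_subgroupOf]
    obtain ⟨a, rfl⟩ := e1.surjective x
    have h1 : g (e1 a) = f a := by
      show f (e1.symm (e1 a)) = f a
      rw [MulEquiv.symm_apply_apply]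
    have h2 : ((e1 a : pre M) : GL (Fin n) F) = Matrix.SpecialLinearGroup.toGL (a : Matrix.SpecialLinearGroup (Fin n) F) := rfl
    rw [h1, h2, ← center_iff hn]
    constructor
    · intro h
      have h3 : pr n F (a : Matrix.SpecialLinearGroup (Fin n) F) = 1 := congrArg Subtype.val h
      exact (QuotientGroup.eq_one_iff _).mp h3
    · intro h
      apply Subtype.ext
      show pr n F (a : Matrix.SpecialLinearGroup (Fin n) F) = 1
      exact (QuotientGroup.eq_one_iff _).mpr h
  exact ⟨(QuotientGroup.quotientMulEquivOfEq hker.symm).trans (QuotientGroup.quotientKerEquivOfSurjective g hg)⟩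

/-- a residual subgroup embeds in `Aut(S)` -/
theorem exists_inj (hn : 0 < n) {M : Subgroup (Matrix.ProjectiveSpecialLinearGroup (Fin n) F)}
    {P : Subgroup (GL (Fin n) F)} (h : IsResidualCore (pre M) P) :
    ∃ φ : M →* MulAut (P ⧸ (scalars (Fin n) F).subgroupOf P), Function.Injective φ := by
  obtain ⟨φ, hφ⟩ := Cfsg.Agent.H900.SU4.exists_core_inj h
  obtain ⟨e⟩ := exists_pre_equiv hn M
  exact ⟨φ.comp e.symm.toMonoidHom, hφ.comp e.symm.injective⟩

theorem card_dvd_mulAut (hn : 0 < n) {M : Subgroup (Matrix.ProjectiveSpecialLinearGroup (Fin n) F)}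
    {P : Subgroup (GL (Fin n) F)} (h : IsResidualCore (pre M) P) :
    Nat.card M ∣ Nat.card (MulAut (P ⧸ (scalars (Fin n) F).subgroupOf P)) := by
  obtain ⟨φ, hφ⟩ := exists_inj hn h
  exact Subgroup.card_dvd_of_injective φ hφ

/-- the simple group `S` is a subgroup of `M` -/
theorem exists_sub (hn : 0 < n) {M : Subgroup (Matrix.ProjectiveSpecialLinearGroup (Fin n) F)}
    {P : Subgroup (GL (Fin n) F)} (h : IsResidualCore (pre M) P) :
    ∃ φ : (P ⧸ (scalars (Fin n) F).subgroupOf P) →* M, Function.Injective φ := by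
  obtain ⟨e⟩ := exists_pre_equiv hn M
  let i : P →* pre M := Subgroup.inclusion h.le
  let j : P →* (pre M ⧸ (scalars (Fin n) F).subgroupOf (pre M)) := (QuotientGroup.mk' _).comp i
  have hker : j.ker = (scalars (Fin n) F).subgroupOf P := by
    ext x
    rw [MonoidHom.mem_ker, Subgroup.mem_subgroupOf]
    show (QuotientGroup.mk (i x) : pre M ⧸ _) = 1 ↔ _
    rw [QuotientGroup.eq_one_iff, Subgroup.mem_subgroupOf]
    rfl
  let k : (P ⧸ (scalars (Fin n) F).subgroupOf P) →* (pre M ⧸ (scalars (Fin n) F).subgroupOf (pre M)) :=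
    (QuotientGroup.kerLift j).comp (QuotientGroup.quotientMulEquivOfEq hker.symm).toMonoidHom
  have hk : Function.Injective k :=
    (QuotientGroup.kerLift_injective j).comp (QuotientGroup.quotientMulEquivOfEq hker.symm).injective
  exact ⟨e.toMonoidHom.comp k, e.injective.comp hk⟩

theorem card_core_dvd (hn : 0 < n) {M : Subgroup (Matrix.ProjectiveSpecialLinearGroup (Fin n) F)}
    {P : Subgroup (GL (Fin n) F)} (h : IsResidualCore (pre M) P) :
    Nat.card (P ⧸ (scalars (Fin n) F).subgroupOf P) ∣ Nat.card M := by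
  obtain ⟨φ, hφ⟩ := exists_sub hn h
  exact Subgroup.card_dvd_of_injective φ hφ

end Cfsg.Agent.H304.PslT
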