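import Cfsg.Agent.S0243
import Cfsg.Agent.H728.DghpNum
import Cfsg.Agent.H396.ClEngine
import Cfsg.Prelude.Def_GeometricClasses

/-!
# From maximal subgroups of `PSL_n(F)` to maximal subgroups of `SL_n(F) ≤ GL_n(F)` (helper304, TEAM ELUSIVE)
-/

set_option autoImplicit false
set_option linter.style.haveILetI false

namespace Cfsg.Agent.H304.PslT

open Matrix Cfsg Cfsg.Geo Cfsg.Agent.H728.DghpNum

variable {F : Type*} [Field F] {n : ℕ}

/-- the projection `SL_n(F) → PSL_n(F)` -/
abbrev pr (n : ℕ) (F : Type*) [Field F] : Matrix.SpecialLinearGroup (Fin n) F →* Matrix.ProjectiveSpecialLinearGroup (Fin n) F :=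
  QuotientGroup.mk' (Subgroup.center (Matrix.SpecialLinearGroup (Fin n) F))

/-- the preimage in `GL_n(F)` of a subgroup of `PSL_n(F)` -/
def pre (M : Subgroup (Matrix.ProjectiveSpecialLinearGroup (Fin n) F)) : Subgroup (GL (Fin n) F) :=
  (M.comap (pr n F)).map (Matrix.SpecialLinearGroup.toGL)

theorem toGL_injective : Function.Injective (Matrix.SpecialLinearGroup.toGL (n := Fin n) (R := F)) := by
  intro a b h
  apply Subtype.ext
  exact congrArg Units.val h

theorem range_toGL : (Matrix.SpecialLinearGroup.toGL (n := Fin n) (R := F)).range = specialLinear (Fin n) F := by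
  ext g
  constructor
  · rintro ⟨a, rfl⟩
    show Matrix.GeneralLinearGroup.det (Matrix.SpecialLinearGroup.toGL a) = 1
    ext
    exact a.2
  · intro hg
    have h1 : (g : Matrix (Fin n) (Fin n) F).det = 1 := congrArg Units.val (MonoidHom.mem_ker.mp hg)
    exact ⟨⟨g, h1⟩, Units.ext rfl⟩

theorem isMaximalIn_pre {M : Subgroup (Matrix.ProjectiveSpecialLinearGroup (Fin n) F)} (hM : IsCoatom M) :
    IsMaximalIn (specialLinear (Fin n) F) (pre M) := by
  have hsurj : Function.Surjective (pr n F) := QuotientGroup.mk'_surjective _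
  set M' := M.comap (pr n F) with hM'
  have hmap : M'.map (pr n F) = M := Subgroup.map_comap_eq_self_of_surjective hsurj M
  have hne : M' ≠ ⊤ := by
    intro h
    apply hM.1
    rw [← hmap, h]
    exact Subgroup.map_top_of_surjective _ hsurj
  have hker : (pr n F).ker ≤ M' := fun x hx => by
    rw [hM', Subgroup.mem_comap, MonoidHom.mem_ker.mp hx]
    exact one_mem _
  have hmax : ∀ L : Subgroup (Matrix.SpecialLinearGroup (Fin n) F), M' ≤ L → L = M' ∨ L = ⊤ := by
    intro L hL
    have h1 : M ≤ L.map (pr n F) := by rw [← hmap]; exact Subgroup.map_mono hL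
    have h2 : (L.map (pr n F)).comap (pr n F) = L :=
      Subgroup.comap_map_eq_self (hker.trans hL)
    rcases hM.le_iff.mp h1 with h3 | h3
    · right
      rw [← h2, h3, Subgroup.comap_top]
    · left
      rw [← h2, h3]
  rw [← range_toGL]
  refine ⟨?_, ?_⟩
  · refine lt_of_le_of_ne (Subgroup.map_le_range _ _) ?_
    intro h
    apply hne
    rw [pre, MonoidHom.range_eq_map] at h
    exact Subgroup.map_injective toGL_injective h
  · intro L hL hLr
    have h1 : (L.comap (Matrix.SpecialLinearGroup.toGL (n := Fin n) (R := F))).map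
        (Matrix.SpecialLinearGroup.toGL (n := Fin n) (R := F)) = L :=
      Subgroup.map_comap_eq_self hLr
    have h2 : M' ≤ L.comap (Matrix.SpecialLinearGroup.toGL (n := Fin n) (R := F)) := by
      rw [← Subgroup.map_le_iff_le_comap]; exact hL
    rcases hmax _ h2 with h3 | h3
    · left
      rw [← h1, h3]; rfl
    · right
      rw [← h1, h3, MonoidHom.range_eq_map]

theorem exists_of_dvd [Fintype F] {M : Subgroup (Matrix.ProjectiveSpecialLinearGroup (Fin n) F)} {u : ℕ} (hu : u.Prime)
    (h : u ∣ Nat.card M) : ∃ x : GL (Fin n) F, orderOf x = u ∧ x ∈ pre M := by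
  classical
  obtain ⟨x, hx, hxM⟩ := Cfsg.Agent.H396.Cl.exists_order (H := Matrix.SpecialLinearGroup (Fin n) F) hu h
  refine ⟨Matrix.SpecialLinearGroup.toGL x, ?_, ⟨x, hxM, rfl⟩⟩
  rw [← hx]
  exact orderOf_injective _ toGL_injective x

theorem mem_specialLinear_of_mem_pre {M : Subgroup (Matrix.ProjectiveSpecialLinearGroup (Fin n) F)}
    {x : GL (Fin n) F} (hx : x ∈ pre M) : x ∈ specialLinear (Fin n) F := by
  rw [← range_toGL]
  exact Subgroup.map_le_range _ _ hx

/-- primitive primes divide the order of `PSL_n(q)` -/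
theorem dvd_card [Fintype F] {e u : ℕ} (he : 2 ≤ e) (hen : e ≤ n) (hP : Ppd (Fintype.card F) e u) :
    u ∣ Nat.card (Matrix.ProjectiveSpecialLinearGroup (Fin n) F) := by
  have hq : 1 ≤ Fintype.card F := Fintype.card_pos
  have h := S0243.result (F := F) rfl n (by omega)
  have h1 : u ∣ ∏ i : Fin n, (Fintype.card F ^ n - Fintype.card F ^ (i : ℕ)) := by
    refine Dvd.dvd.trans ?_ (Finset.dvd_prod_of_mem _ (Finset.mem_univ (⟨n - e, by omega⟩ : Fin n)))
    have h2 : Fintype.card F ^ n - Fintype.card F ^ (n - e) = Fintype.card F ^ (n - e) * (Fintype.card F ^ e - 1) := by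
      rw [Nat.mul_sub, mul_one, ← pow_add]
      congr 2
      omega
    show u ∣ Fintype.card F ^ n - Fintype.card F ^ (n - e)
    rw [h2]
    exact ((hP.dvd_iff e).mpr dvd_rfl).mul_left _
  rw [← h] at h1
  have h3 : ¬ u ∣ Fintype.card F - 1 := by
    intro h3
    have := (hP.dvd_iff 1).mp (by rwa [pow_one])
    exact absurd (Nat.le_of_dvd one_pos this) (by omega)
  rcases hP.prime.dvd_mul.mp h1 with h4 | h4
  · exact absurd (h4.trans (Nat.gcd_dvd_right _ _)) h3
  · rcases hP.prime.dvd_mul.mp h4 with h5 | h5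
    · exact absurd h5 h3
    · exact h5

/-- primes dividing `q` or `q ^ 2 - 1`: the characteristic -/
theorem char_dvd_card [Fintype F] {p : ℕ} (hp : p.Prime) (hpF : p ∣ Fintype.card F) (hn : 2 ≤ n) :
    p ∣ Nat.card (Matrix.ProjectiveSpecialLinearGroup (Fin n) F) := by
  have hq : 1 ≤ Fintype.card F := Fintype.card_pos
  have h := S0243.result (F := F) rfl n hn
  have h1 : p ∣ ∏ i : Fin n, (Fintype.card F ^ n - Fintype.card F ^ (i : ℕ)) := by
    refine Dvd.dvd.trans ?_ (Finset.dvd_prod_of_mem _ (Finset.mem_univ (⟨1, by omega⟩ : Fin n)))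
    show p ∣ Fintype.card F ^ n - Fintype.card F ^ 1
    exact Nat.dvd_sub (dvd_pow hpF (by omega)) (dvd_pow hpF one_ne_zero)
  rw [← h] at h1
  have h3 : ¬ p ∣ Fintype.card F - 1 := by
    intro h3
    have h4 : p ∣ 1 := by
      have := Nat.dvd_sub hpF h3
      rwa [Nat.sub_sub_self hq] at this
    exact hp.one_lt.ne' (Nat.dvd_one.mp h4)
  rcases hp.dvd_mul.mp h1 with h4 | h4
  · exact absurd (h4.trans (Nat.gcd_dvd_right _ _)) h3
  · rcases hp.dvd_mul.mp h4 with h5 | h5
    · exact absurd h5 h3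
    · exact h5

/-- the order of `PSL_n(q)` is even -/
theorem even_card [Fintype F] (hn : 3 ≤ n) : 2 ∣ Nat.card (Matrix.ProjectiveSpecialLinearGroup (Fin n) F) := by
  have hq : 2 ≤ Fintype.card F := Fintype.one_lt_card
  by_cases hev : 2 ∣ Fintype.card F
  · exact char_dvd_card Nat.prime_two hev (by omega)
  have h := S0243.result (F := F) rfl n (by omega)
  obtain ⟨d, hd⟩ : ∃ d, Fintype.card F = d + 1 := ⟨Fintype.card F - 1, by omega⟩
  have hd2 : 2 ∣ d := by omega
  have hd0 : 0 < d := by omega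
  have h1 : (Fintype.card F ^ 3 - 1) * ((Fintype.card F ^ 2 - 1) * (Fintype.card F ^ 1 - 1)) ∣
      ∏ i : Fin n, (Fintype.card F ^ n - Fintype.card F ^ (i : ℕ)) := by
    have e1 : (⟨n - 3, by omega⟩ : Fin n) ≠ ⟨n - 2, by omega⟩ := fun h => by
      have := congrArg Fin.val h
      simp only at this
      omega
    have e2 : (⟨n - 3, by omega⟩ : Fin n) ≠ ⟨n - 1, by omega⟩ := fun h => by
      have := congrArg Fin.val h
      simp only at this
      omega
    have e3 : (⟨n - 2, by omega⟩ : Fin n) ≠ ⟨n - 1, by omega⟩ := fun h => by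
      have := congrArg Fin.val h
      simp only at this
      omega
    have h2 : ∏ i ∈ ({⟨n - 3, by omega⟩, ⟨n - 2, by omega⟩, ⟨n - 1, by omega⟩} : Finset (Fin n)),
        (Fintype.card F ^ n - Fintype.card F ^ (i : ℕ)) =
        (Fintype.card F ^ n - Fintype.card F ^ (n - 3)) * ((Fintype.card F ^ n - Fintype.card F ^ (n - 2)) *
          (Fintype.card F ^ n - Fintype.card F ^ (n - 1))) := by
      rw [Finset.prod_insert (by simp [e1, e2]), Finset.prod_insert (by simp [e3]), Finset.prod_singleton]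
    refine Dvd.dvd.trans ?_ (Finset.prod_dvd_prod_of_subset
      ({⟨n - 3, by omega⟩, ⟨n - 2, by omega⟩, ⟨n - 1, by omega⟩} : Finset (Fin n)) _ _ (Finset.subset_univ _))
    rw [h2]
    have key : ∀ j, j ≤ n → Fintype.card F ^ j - 1 ∣ Fintype.card F ^ n - Fintype.card F ^ (n - j) := by
      intro j hj
      refine ⟨Fintype.card F ^ (n - j), ?_⟩
      rw [Nat.sub_mul, one_mul, ← pow_add]
      congr 2
      omega
    exact mul_dvd_mul (key 3 hn) (mul_dvd_mul (key 2 (by omega)) (key 1 (by omega)))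
  obtain ⟨k, hk⟩ := h1
  rw [hk] at h
  obtain ⟨e, he⟩ : Nat.gcd n (Fintype.card F - 1) ∣ d := by
    have h5 := Nat.gcd_dvd_right n (Fintype.card F - 1)
    have h6 : Fintype.card F - 1 = d := by omega
    exact h5.trans (dvd_of_eq h6)
  have hg0 : 0 < Nat.gcd n (Fintype.card F - 1) := Nat.gcd_pos_of_pos_left _ (by omega)
  set g := Nat.gcd n (Fintype.card F - 1) with hg
  set c := Nat.card (Matrix.ProjectiveSpecialLinearGroup (Fin n) F) with hc
  have a1 : Fintype.card F - 1 = d := by omega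
  have a2 : Fintype.card F ^ 1 - 1 = d := by rw [pow_one]; exact a1
  have a3 : Fintype.card F ^ 2 - 1 = d * (d + 2) := by
    rw [hd]
    have : (d + 1) ^ 2 = d * (d + 2) + 1 := by ring
    rw [this, Nat.add_sub_cancel]
  have a4 : Fintype.card F ^ 3 - 1 = d * (d ^ 2 + 3 * d + 3) := by
    rw [hd]
    have : (d + 1) ^ 3 = d * (d ^ 2 + 3 * d + 3) + 1 := by ring
    rw [this, Nat.add_sub_cancel]
  rw [a1, a2, a3, a4] at h
  have h3 : (g * d) * c = (g * d) * (e * d * (d + 2) * (d ^ 2 + 3 * d + 3) * k) := by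
    calc (g * d) * c = g * (d * c) := by ring
      _ = d * (d ^ 2 + 3 * d + 3) * (d * (d + 2) * d) * k := h
      _ = d * (d ^ 2 + 3 * d + 3) * ((g * e) * (d + 2) * d) * k := by
          conv_rhs => rw [← he]
      _ = _ := by ring
  have h4 := Nat.eq_of_mul_eq_mul_left (Nat.mul_pos hg0 hd0) h3
  rw [h4]
  exact Dvd.dvd.mul_right (Dvd.dvd.mul_right (Dvd.dvd.mul_right (Dvd.dvd.mul_left hd2 _) _) _) _

end Cfsg.Agent.H304.PslT
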