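import Mathlib
import Cfsg.Prelude.Def_TwoFusion

/-!
# Central Sylow intersections: elementary facts

`CI p G`: the intersection of two distinct Sylow `p`-subgroups lies in the centre of some Sylow `p`-subgroup.
`CI.mem_ctr`: under `CI`, an element central in some Sylow `p`-subgroup is central in all Sylow `p`-subgroups
containing it. Hence `Z(S)` is strongly closed in `S`, distinct Sylow `p`-subgroups meet in `Z(S) ∩ Z(T)`, and
`C_S(x)` is a Sylow `p`-subgroup of `C_G(x)` for all `x ∈ S`.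
-/

set_option autoImplicit false

namespace Cfsg.Agent.H304.CIBasic

open Subgroup

/-- The centre of a subgroup, seen in the group. -/
abbrev ctr {G : Type*} [Group G] (S : Subgroup G) : Subgroup G := (center ↥S).map S.subtype

/-- Distinct Sylow `p`-subgroups meet inside the centre of some Sylow `p`-subgroup. -/
def CI (p : ℕ) (G : Type*) [Group G] : Prop :=
  ∀ S T : Sylow p G, S ≠ T → ∃ U : Sylow p G, (S : Subgroup G) ⊓ (T : Subgroup G) ≤ ctr (U : Subgroup G)

variable {G : Type*} [Group G]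

theorem mem_ctr {S : Subgroup G} {x : G} : x ∈ ctr S ↔ x ∈ S ∧ ∀ s ∈ S, s * x = x * s := by
  constructor
  · rintro ⟨⟨y, hy⟩, hc, rfl⟩
    refine ⟨hy, fun s hs => ?_⟩
    have := (mem_center_iff.mp hc) ⟨s, hs⟩
    exact congrArg Subtype.val this
  · rintro ⟨hx, hc⟩
    exact ⟨⟨x, hx⟩, mem_center_iff.mpr (fun s => Subtype.ext (hc s s.2)), rfl⟩

theorem ctr_le (S : Subgroup G) : ctr S ≤ S := fun _ hx => (mem_ctr.mp hx).1

/-- An element of a centre of a subgroup, conjugated. -/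
theorem conj_mem_ctr {S : Subgroup G} {x : G} (g : G) (hx : x ∈ ctr S) :
    g * x * g⁻¹ ∈ ctr (S.map (MulAut.conj g).toMonoidHom) := by
  rw [mem_ctr] at hx ⊢
  refine ⟨⟨x, hx.1, rfl⟩, ?_⟩
  rintro _ ⟨s, hs, rfl⟩
  have h := hx.2 s hs
  show g * s * g⁻¹ * (g * x * g⁻¹) = g * x * g⁻¹ * (g * s * g⁻¹)
  calc g * s * g⁻¹ * (g * x * g⁻¹) = g * (s * x) * g⁻¹ := by group
    _ = g * (x * s) * g⁻¹ := by rw [h]
    _ = g * x * g⁻¹ * (g * s * g⁻¹) := by group

section
variable {p : ℕ} [Fact p.Prime] [Finite G]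

/-- A `p`-subgroup `P` of a subgroup `C` containing the Sylow subgroup `U` of `G` is conjugate in `C` into `U`. -/
theorem exists_conj_le {C P : Subgroup G} (U : Sylow p G) (hU : (U : Subgroup G) ≤ C) (hP : IsPGroup p ↥P)
    (hPC : P ≤ C) : ∃ c ∈ C, ∀ y ∈ P, c * y * c⁻¹ ∈ (U : Subgroup G) := by
  have hPp : IsPGroup p ↥(P.subgroupOf C) := hP.comap_subtype
  obtain ⟨Q, hQ⟩ := hPp.exists_le_sylow
  obtain ⟨c, hc⟩ := MulAction.exists_smul_eq (↥C) Q (U.subtype hU)
  refine ⟨c, c.2, fun y hy => ?_⟩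
  have h1 : (⟨y, hPC hy⟩ : ↥C) ∈ (Q : Subgroup ↥C) := hQ (by rw [mem_subgroupOf]; exact hy)
  have h2 : c * (⟨y, hPC hy⟩ : ↥C) * c⁻¹ ∈ ((U.subtype hU : Sylow p ↥C) : Subgroup ↥C) := by
    rw [← hc]
    exact ⟨_, h1, rfl⟩
  exact h2

/-- **Key lemma**: under `CI` an element central in some Sylow subgroup is central in every Sylow subgroup
containing it. -/
theorem CI.mem_ctr (h : CI p G) {S U : Sylow p G} {x : G} (hS : x ∈ (S : Subgroup G))
    (hU : x ∈ ctr (U : Subgroup G)) : x ∈ ctr (S : Subgroup G) := by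
  classical
  set C := centralizer ({x} : Set G) with hC
  have hmC : ∀ y : G, y ∈ C ↔ x * y = y * x := fun y => by
    rw [hC, mem_centralizer_iff]; simp
  have hUC : (U : Subgroup G) ≤ C := fun y hy =>
    (hmC y).mpr ((CIBasic.mem_ctr.mp hU).2 y hy).symm
  obtain ⟨c, hcC, hc⟩ := exists_conj_le U hUC (P := (S : Subgroup G) ⊓ C)
    (S.isPGroup'.to_le inf_le_left) inf_le_right
  -- the Sylow subgroup `V = c⁻¹ U c`
  set V : Sylow p G := c⁻¹ • U with hV
  have hVmem : ∀ y : G, y ∈ (V : Subgroup G) ↔ c * y * c⁻¹ ∈ (U : Subgroup G) := by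
    intro y
    rw [hV]
    constructor
    · rintro ⟨u, hu, hu'⟩
      have h0 : c⁻¹ * u * c⁻¹⁻¹ = y := hu'
      have h1 : c * y * c⁻¹ = u := by rw [← h0]; group
      rw [h1]
      exact hu
    · intro hy
      refine ⟨c * y * c⁻¹, hy, ?_⟩
      simp [MulAut.smul_def, mul_assoc]
  have hVC : ∀ y ∈ (V : Subgroup G), y ∈ C := by
    intro y hy
    have h1 : c * y * c⁻¹ ∈ C := hUC ((hVmem y).mp hy)
    have h2 : c⁻¹ * (c * y * c⁻¹) * c ∈ C := C.mul_mem (C.mul_mem (C.inv_mem hcC) h1) hcC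
    simpa [mul_assoc] using h2
  by_cases hSV : S = V
  · rw [CIBasic.mem_ctr]
    refine ⟨hS, fun s hs => ?_⟩
    have : s ∈ C := hVC s (by rw [← hSV]; exact hs)
    exact ((hmC s).mp this).symm
  obtain ⟨W, hW⟩ := h S V hSV
  -- `D = S ∩ V = S ∩ C`
  have hD : (S : Subgroup G) ⊓ (V : Subgroup G) = (S : Subgroup G) ⊓ C := by
    apply le_antisymm
    · exact fun y hy => ⟨hy.1, hVC y hy.2⟩
    · exact fun y hy => ⟨hy.1, (hVmem y).mpr (hc y hy)⟩
  rw [hD] at hW
  set D := (S : Subgroup G) ⊓ C with hDdef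
  by_cases hDS : D = (S : Subgroup G)
  · rw [CIBasic.mem_ctr]
    refine ⟨hS, fun s hs => ?_⟩
    have : s ∈ D := by rw [hDS]; exact hs
    exact ((hmC s).mp this.2).symm
  exfalso
  -- normalizers grow in `S`
  have hnil : Group.IsNilpotent ↥(S : Subgroup G) := S.isPGroup'.isNilpotent
  have hlt : D.subgroupOf (S : Subgroup G) < ⊤ := by
    rw [lt_top_iff_ne_top, Ne, subgroupOf_eq_top]
    intro hle
    exact hDS (le_antisymm inf_le_left hle)
  have hgrow := Group.normalizerCondition_of_isNilpotent _ hlt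
  obtain ⟨⟨y, hyS⟩, hyN, hyD⟩ := SetLike.exists_of_lt hgrow
  rw [mem_subgroupOf] at hyD
  have hyD' : y ∉ D := hyD
  -- `y` normalises `D`
  have hyN' : y ∈ normalizer (D : Set G) := by
    rw [mem_normalizer_iff] at hyN ⊢
    intro d
    constructor
    · intro hd
      have := (hyN ⟨d, hd.1⟩).mp (by rw [mem_subgroupOf]; exact hd)
      exact this
    · intro hd
      have hdS : d ∈ (S : Subgroup G) := by
        have h1 := hd.1
        have h2 : y⁻¹ * (y * d * y⁻¹) * y ∈ (S : Subgroup G) :=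
          mul_mem (mul_mem (inv_mem hyS) h1) hyS
        simpa [mul_assoc] using h2
      have := (hyN ⟨d, hdS⟩).mpr (by rw [mem_subgroupOf]; exact hd)
      exact this
  have hWN : (W : Subgroup G) ≤ normalizer (D : Set G) := by
    intro w hw
    rw [mem_normalizer_iff]
    have hcomm : ∀ d ∈ D, w * d * w⁻¹ = d := fun d hd => by
      rw [(CIBasic.mem_ctr.mp (hW hd)).2 w hw, mul_assoc, mul_inv_cancel, mul_one]
    intro d
    constructor
    · intro hd
      rw [hcomm d hd]; exact hd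
    · intro hd
      have h1 : w * (w * d * w⁻¹) * w⁻¹ = w * d * w⁻¹ := hcomm _ hd
      have h2 : w * d * w⁻¹ = d := by
        have h3 := congrArg (fun z => w⁻¹ * z * w) h1
        simpa [mul_assoc] using h3
      rwa [h2] at hd
  have hzp : IsPGroup p ↥(zpowers y) := by
    refine S.isPGroup'.to_le ?_
    rw [zpowers_le]; exact hyS
  obtain ⟨n, hn, hny⟩ := exists_conj_le W hWN hzp (by rw [zpowers_le]; exact hyN')
  have h1 : n * y * n⁻¹ ∈ (W : Subgroup G) := hny y (mem_zpowers y)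
  have hxD : x ∈ D := ⟨hS, (hmC x).mpr rfl⟩
  have hnx : n * x * n⁻¹ ∈ D := (mem_normalizer_iff.mp hn x).mp hxD
  have h2 := (CIBasic.mem_ctr.mp (hW hnx)).2 _ h1
  have h3 : x * y = y * x := by
    have h4 : n * (y * x) * n⁻¹ = n * (x * y) * n⁻¹ := by
      calc n * (y * x) * n⁻¹ = n * y * n⁻¹ * (n * x * n⁻¹) := by group
        _ = n * x * n⁻¹ * (n * y * n⁻¹) := h2
        _ = n * (x * y) * n⁻¹ := by group
    have h5 := congrArg (fun z => n⁻¹ * z * n) h4
    simpa [mul_assoc] using h5.symm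
  exact hyD' ⟨hyS, (hmC y).mpr h3⟩

/-- Distinct Sylow subgroups meet inside the centre of each. -/
theorem CI.inf_le (h : CI p G) {S T : Sylow p G} (hne : S ≠ T) :
    (S : Subgroup G) ⊓ (T : Subgroup G) ≤ ctr (S : Subgroup G) := by
  obtain ⟨U, hU⟩ := h S T hne
  exact fun x hx => h.mem_ctr hx.1 (hU hx)

/-- `Z(S)` is strongly closed in `S`. -/
theorem CI.isStronglyClosed (h : CI p G) (S : Sylow p G) :
    Cfsg.IsStronglyClosed (ctr (S : Subgroup G)) (S : Subgroup G) := by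
  refine ⟨ctr_le _, fun x hx g hg => ?_⟩
  have h1 := conj_mem_ctr g hx
  exact h.mem_ctr (U := g • S) hg h1

/-- An element of `S` outside the centre lies in no other Sylow subgroup. -/
theorem CI.eq_of_mem (h : CI p G) {S T : Sylow p G} {x : G} (hS : x ∈ (S : Subgroup G))
    (hx : x ∉ ctr (S : Subgroup G)) (hT : x ∈ (T : Subgroup G)) : S = T := by
  by_contra hne
  exact hx (h.inf_le hne ⟨hS, hT⟩)

/-- the centre of a nontrivial Sylow subgroup is not trivial. -/
theorem ctr_ne_bot {S : Sylow p G} (hS : (S : Subgroup G) ≠ ⊥) : ctr (S : Subgroup G) ≠ ⊥ := by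
  have : Nontrivial ↥(S : Subgroup G) := (nontrivial_iff_ne_bot _).mpr hS
  have := S.isPGroup'.center_nontrivial
  intro h0
  have h1 : (center ↥(S : Subgroup G)) = ⊥ := by
    rw [eq_bot_iff]
    intro z hz
    have h2 : (z : G) ∈ ctr (S : Subgroup G) := ⟨z, hz, rfl⟩
    rw [h0, mem_bot] at h2
    rw [mem_bot]
    exact Subtype.ext h2
  exact (nontrivial_iff_ne_bot _).mp this h1

omit [Finite G] in
theorem ctr_comm (S : Subgroup G) : IsMulCommutative ↥(ctr S) := by
  refine ⟨⟨fun a b => Subtype.ext ?_⟩⟩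
  exact (CIBasic.mem_ctr.mp b.2).2 a (ctr_le S a.2)

omit [Finite G] in
/-- `CI` in terms of an abelian Sylow subgroup. -/
theorem ctr_eq_of_comm {S : Subgroup G} (h : IsMulCommutative ↥S) : ctr S = S := by
  apply le_antisymm (ctr_le S)
  intro x hx
  rw [CIBasic.mem_ctr]
  exact ⟨hx, fun s hs => congrArg Subtype.val (h.is_comm.comm ⟨s, hs⟩ ⟨x, hx⟩)⟩

end

end Cfsg.Agent.H304.CIBasic
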