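import Mathlib
import Cfsg.Agent.H304.CIBasic

/-!
# Central Sylow intersections: subgroups and quotients
-/

set_option autoImplicit false

namespace Cfsg.Agent.H304.CIHered

open Subgroup Cfsg.Agent.H304.CIBasic

variable {G : Type*} [Group G] {p : ℕ} [Fact p.Prime] [Finite G]

theorem subgroup (h : CI p G) (H : Subgroup G) : CI p ↥H := by
  intro P Q hne
  obtain ⟨S, hS⟩ := P.exists_comap_subtype_eq
  obtain ⟨T, hT⟩ := Q.exists_comap_subtype_eq
  have hST : S ≠ T := by
    rintro rfl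
    exact hne (Sylow.ext (hS.symm.trans hT))
  refine ⟨P, fun x hx => ?_⟩
  have hxS : (x : G) ∈ (S : Subgroup G) := by
    have : x ∈ (S : Subgroup G).comap H.subtype := by rw [hS]; exact hx.1
    exact this
  have hxT : (x : G) ∈ (T : Subgroup G) := by
    have : x ∈ (T : Subgroup G).comap H.subtype := by rw [hT]; exact hx.2
    exact this
  have h1 := mem_ctr.mp (h.inf_le hST ⟨hxS, hxT⟩)
  rw [mem_ctr]
  refine ⟨hx.1, fun s hs => ?_⟩
  have hsS : (s : G) ∈ (S : Subgroup G) := by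
    have : s ∈ (S : Subgroup G).comap H.subtype := by rw [hS]; exact hs
    exact this
  exact Subtype.ext (h1.2 _ hsS)

theorem map_smul_eq {Y : Type*} [Group Y] {f : G →* Y} (hf : Function.Surjective f) (T : Sylow p G) (c : G) :
    (((c • T : Sylow p G).mapSurjective hf : Sylow p Y)) = f c • (T.mapSurjective hf : Sylow p Y) := by
  apply Sylow.ext
  ext y
  constructor
  · rintro ⟨_, ⟨t, ht, rfl⟩, rfl⟩
    refine ⟨f t, ⟨t, ht, rfl⟩, ?_⟩
    show f c * f t * (f c)⁻¹ = f (c * t * c⁻¹)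
    simp
  · rintro ⟨_, ⟨t, ht, rfl⟩, rfl⟩
    refine ⟨c * t * c⁻¹, ⟨t, ht, rfl⟩, ?_⟩
    show f (c * t * c⁻¹) = f c * f t * (f c)⁻¹
    simp

theorem of_surjective (h : CI p G) {Y : Type*} [Group Y] {f : G →* Y} (hf : Function.Surjective f) :
    CI p Y := by
  have : Finite Y := Finite.of_surjective f hf
  intro S' T' hne
  obtain ⟨S, rfl⟩ := Sylow.mapSurjective_surjective hf p S'
  obtain ⟨T, rfl⟩ := Sylow.mapSurjective_surjective hf p T'
  refine ⟨S.mapSurjective hf, ?_⟩
  rintro x' ⟨⟨s, hs, rfl⟩, hT⟩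
  -- a Sylow subgroup `c⁻¹ T c` with the same image as `T` containing `s`
  set C := ((T.mapSurjective hf : Sylow p Y) : Subgroup Y).comap f with hC
  have hTC : (T : Subgroup G) ≤ C := fun t ht => ⟨t, ht, rfl⟩
  have hsp : IsPGroup p ↥(zpowers s) := S.isPGroup'.to_le (by rw [zpowers_le]; exact hs)
  obtain ⟨c, hc, hcs⟩ := exists_conj_le T hTC hsp (by rw [zpowers_le]; exact hT)
  have h1 : s ∈ ((c⁻¹ • T : Sylow p G) : Subgroup G) := by
    refine ⟨c * s * c⁻¹, hcs s (mem_zpowers s), ?_⟩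
    show c⁻¹ * (c * s * c⁻¹) * c⁻¹⁻¹ = s
    group
  have h2 : ((c⁻¹ • T : Sylow p G).mapSurjective hf : Sylow p Y) = T.mapSurjective hf := by
    rw [map_smul_eq]
    refine Sylow.smul_eq_iff_mem_normalizer.mpr (le_normalizer ?_)
    rw [map_inv]
    exact inv_mem hc
  have h3 : S ≠ (c⁻¹ • T : Sylow p G) := by
    intro h4
    apply hne
    rw [← h2, ← h4]
  have h4 := mem_ctr.mp (h.inf_le h3 ⟨hs, h1⟩)
  rw [mem_ctr]
  refine ⟨⟨s, hs, rfl⟩, ?_⟩
  rintro _ ⟨u, hu, rfl⟩
  show f u * f s = f s * f u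
  rw [← map_mul, ← map_mul, h4.2 u hu]

theorem quotient (h : CI p G) (N : Subgroup G) [N.Normal] : CI p (G ⧸ N) :=
  of_surjective h (QuotientGroup.mk'_surjective N)

theorem congr (h : CI p G) {Y : Type*} [Group Y] (e : G ≃* Y) : CI p Y :=
  of_surjective h (f := e.toMonoidHom) e.surjective

/-- Elements outside the centre of `S`: the centraliser normalises `S`. -/
theorem centralizer_le (h : CI p G) {S : Sylow p G} {x : G} (hS : x ∈ (S : Subgroup G))
    (hx : x ∉ ctr (S : Subgroup G)) : centralizer ({x} : Set G) ≤ normalizer ((S : Subgroup G) : Set G) := by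
  intro g hg
  have hgx : x * g = g * x := mem_centralizer_iff.mp hg x rfl
  have h1 : x ∈ ((g • S : Sylow p G) : Subgroup G) := by
    refine ⟨x, hS, ?_⟩
    show g * x * g⁻¹ = x
    rw [← hgx, mul_assoc, mul_inv_cancel, mul_one]
  have h2 := h.eq_of_mem hS hx h1
  exact Sylow.smul_eq_iff_mem_normalizer.mp h2.symm

/-- If a subgroup `A` of `S` is not in the centre of `S`, then its normaliser normalises `S`. -/
theorem normalizer_le (h : CI p G) {S : Sylow p G} {A : Subgroup G} (hA : A ≤ (S : Subgroup G))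
    (hx : ¬ A ≤ ctr (S : Subgroup G)) : normalizer (A : Set G) ≤ normalizer ((S : Subgroup G) : Set G) := by
  obtain ⟨x, hxA, hx⟩ := Set.not_subset.mp hx
  intro g hg
  have h1 : x ∈ ((g • S : Sylow p G) : Subgroup G) := by
    refine ⟨g⁻¹ * x * g, hA ?_, ?_⟩
    · have := (mem_normalizer_iff.mp (inv_mem hg) x).mp hxA
      simpa using this
    · show g * (g⁻¹ * x * g) * g⁻¹ = x
      group
  have h2 := h.eq_of_mem (hA hxA) hx h1
  exact Sylow.smul_eq_iff_mem_normalizer.mp h2.symm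

/-- A normal subgroup in all Sylow subgroups: `S` is normal or `A ≤ Z(S)`. -/
theorem normal_or_le (h : CI p G) (S : Sylow p G) {A : Subgroup G} (hA : A.Normal) (hAS : A ≤ (S : Subgroup G)) :
    (S : Subgroup G).Normal ∨ A ≤ ctr (S : Subgroup G) := by
  by_cases hx : A ≤ ctr (S : Subgroup G)
  · exact Or.inr hx
  · left
    rw [← normalizer_eq_top_iff, eq_top_iff]
    have h1 := normalizer_le h hAS hx
    rwa [normalizer_eq_top_iff.mpr hA] at h1

end Cfsg.Agent.H304.CIHered
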