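import Cfsg.Agent.H954.FieldSub
import Cfsg.Prelude.Def_GeometricClasses

/-!
# The normaliser of a maximal subfield of `M_n(F)`, `n` odd, contains no involution of determinant one
(helper304, TEAM ELUSIVE)
-/

set_option autoImplicit false
set_option linter.style.haveILetI false

namespace Cfsg.Agent.H304.ExtInv

open Matrix Cfsg Cfsg.Geo

theorem no_involution {F : Type*} [Field F] [Fintype F] {n : ℕ} (hn : Odd n)
    {K : Subalgebra F (Matrix (Fin n) (Fin n) F)} (hK : IsFieldSubalgebra n K)
    {x : GL (Fin n) F} (hx : orderOf x = 2) (hxK : x ∈ subalgebraNormalizer K)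
    (hxS : x ∈ specialLinear (Fin n) F) : False := by
  have hn0 : 0 < n := hn.pos
  haveI : Nonempty (Fin n) := ⟨⟨0, hn0⟩⟩
  obtain ⟨L, _, _, φ, hφ, hL⟩ := Cfsg.Agent.H954.FieldSub.exists_field hK
  have hinj : Function.Injective φ := φ.toRingHom.injective
  haveI : Module.Finite F L := Module.finite_of_finrank_pos (by rw [hL]; exact hn0)
  haveI : Finite L := Module.finite_of_finite F
  have hx2 : x * x = 1 := by
    have := pow_orderOf_eq_one x
    rw [hx, pow_two] at this
    exact this
  have hxinv : ((x⁻¹ : GL (Fin n) F) : Matrix (Fin n) (Fin n) F) = x := by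
    rw [inv_eq_of_mul_eq_one_left hx2]
  have hxx : (x : Matrix (Fin n) (Fin n) F) * x = 1 := by
    rw [← Units.val_mul, hx2, Units.val_one]
  -- the induced automorphism
  have hex : ∀ l : L, ∃ l' : L, φ l' = (x : Matrix (Fin n) (Fin n) F) * φ l * x := by
    intro l
    have h1 : φ l ∈ K := by rw [← hφ]; exact ⟨l, rfl⟩
    have h2 := (hxK (φ l)).mp h1
    rw [hxinv, ← hφ] at h2
    exact h2
  choose f hf using hex
  have hff : ∀ l, f (f l) = l := by
    intro l
    apply hinj
    rw [hf, hf]
    calc (x : Matrix (Fin n) (Fin n) F) * (x * φ l * x) * x = (x * x) * φ l * (x * x) := by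
          simp only [Matrix.mul_assoc]
      _ = φ l := by rw [hxx, Matrix.one_mul, Matrix.mul_one]
  let ψ : L ≃ₐ[F] L :=
    { toFun := f
      invFun := f
      left_inv := hff
      right_inv := hff
      map_mul' := fun a b => by
        apply hinj
        rw [map_mul, hf, hf, hf, map_mul]
        calc (x : Matrix (Fin n) (Fin n) F) * (φ a * φ b) * x = x * φ a * 1 * φ b * x := by
              rw [Matrix.mul_one]; simp only [Matrix.mul_assoc]
          _ = x * φ a * x * (x * φ b * x) := by rw [← hxx]; simp only [Matrix.mul_assoc]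
      map_add' := fun a b => by
        apply hinj
        rw [map_add, hf, hf, hf, map_add, Matrix.mul_add, Matrix.add_mul]
      commutes' := fun c => by
        apply hinj
        rw [hf, AlgHom.commutes, Algebra.algebraMap_eq_smul_one, Matrix.mul_smul, Matrix.mul_one, Matrix.smul_mul, hxx] }
  have hψ2 : ψ ^ 2 = 1 := by
    ext l
    exact hff l
  have hψ : ψ = 1 := by
    have h1 : orderOf ψ ∣ 2 := orderOf_dvd_of_pow_eq_one hψ2
    have h2 : orderOf ψ ∣ n := by
      have := _root_.orderOf_dvd_natCard ψ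
      rwa [IsGalois.card_aut_eq_finrank, hL] at this
    have h3 : orderOf ψ = 1 := Nat.eq_one_of_dvd_coprimes hn.coprime_two_left h1 h2
    exact orderOf_eq_one_iff.mp h3
  have hcomm : ∀ l : L, (x : Matrix (Fin n) (Fin n) F) * φ l = φ l * x := by
    intro l
    have h1 : f l = l := DFunLike.congr_fun hψ l
    have h2 := hf l
    rw [h1] at h2
    calc (x : Matrix (Fin n) (Fin n) F) * φ l = x * φ l * (x * x) := by rw [hxx, Matrix.mul_one]
      _ = (x * φ l * x) * x := by simp only [Matrix.mul_assoc]
      _ = _ := by rw [← h2]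
  -- the orbit map
  obtain ⟨v, hv⟩ : ∃ v : Fin n → F, v ≠ 0 := exists_ne 0
  let g : L →ₗ[F] (Fin n → F) :=
    { toFun := fun l => φ l *ᵥ v
      map_add' := fun a b => by rw [map_add, Matrix.add_mulVec]
      map_smul' := fun c a => by rw [map_smul, Matrix.smul_mulVec, RingHom.id_apply] }
  have hginj : Function.Injective g := by
    rw [injective_iff_map_eq_zero]
    intro l hl
    by_contra hl0
    apply hv
    have h1 : φ l⁻¹ *ᵥ (φ l *ᵥ v) = v := by
      rw [Matrix.mulVec_mulVec, ← map_mul, inv_mul_cancel₀ hl0, map_one, Matrix.one_mulVec]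
    rw [← h1, show φ l *ᵥ v = 0 from hl, Matrix.mulVec_zero]
  have hgsurj : Function.Surjective g := by
    have h1 : Module.finrank F L = Module.finrank F (Fin n → F) := by
      rw [hL, Module.finrank_fintype_fun_eq_card, Fintype.card_fin]
    exact (LinearMap.injective_iff_surjective_of_finrank_eq_finrank h1).mp hginj
  obtain ⟨l, hl⟩ := hgsurj ((x : Matrix (Fin n) (Fin n) F) *ᵥ v)
  have hxl : (x : Matrix (Fin n) (Fin n) F) = φ l := by
    apply Matrix.mulVec_injective
    ext1 w
    obtain ⟨l', rfl⟩ := hgsurj w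
    show (x : Matrix (Fin n) (Fin n) F) *ᵥ (φ l' *ᵥ v) = φ l *ᵥ (φ l' *ᵥ v)
    rw [Matrix.mulVec_mulVec, hcomm, ← Matrix.mulVec_mulVec, ← hl]
    show φ l' *ᵥ (φ l *ᵥ v) = _
    rw [Matrix.mulVec_mulVec, Matrix.mulVec_mulVec, ← map_mul, ← map_mul, mul_comm]
  have hl2 : l * l = 1 := by
    apply hinj
    rw [map_mul, ← hxl, hxx, map_one]
  rcases mul_self_eq_one_iff.mp hl2 with h1 | h1
  · rw [h1, map_one] at hxl
    have : x = 1 := Units.ext hxl
    rw [this, orderOf_one] at hx
    norm_num at hx
  · rw [h1, map_neg, map_one] at hxl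
    have h2 : (x : Matrix (Fin n) (Fin n) F).det = 1 := congrArg Units.val (MonoidHom.mem_ker.mp hxS)
    rw [hxl, Matrix.det_neg, Matrix.det_one, mul_one, Fintype.card_fin, hn.neg_one_pow] at h2
    have : x = 1 := by
      apply Units.ext
      rw [hxl, Units.val_one]
      ext i j
      rw [Matrix.neg_apply, Matrix.one_apply]
      split_ifs
      · exact h2
      · exact neg_zero
    rw [this, orderOf_one] at hx
    norm_num at hx

end Cfsg.Agent.H304.ExtInv
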