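import Cfsg.Agent.S0022
import Cfsg.Agent.S0055
import Cfsg.Agent.Lib.CoprimeCommutator

/-! Coprime action on an `r`-group `K` with `[K, A] = K`: two criteria for `C_K(A) ≤ Z(K)`. -/

set_option autoImplicit false

universe u

open Subgroup
open scoped commutatorElement

namespace Cfsg.Agent.H304.PairFrob

section core

variable {G : Type u} [Group G]

theorem br_mul {z y w : G} (h : ⁅z, w⁆ ∈ center G) : ⁅z, y * w⁆ = ⁅z, y⁆ * ⁅z, w⁆ := by
  have h1 := (mem_center_iff.mp h) y
  have h2 : ⁅z, y * w⁆ = ⁅z, y⁆ * (y * ⁅z, w⁆ * y⁻¹) := by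
    simp only [commutatorElement_def]; group
  rw [h2, h1, mul_inv_cancel_right]

theorem br_conj {a z y : G} (h : ⁅z, a⁻¹ * y * a⁆ ∈ center G) :
    ⁅a * z * a⁻¹, y⁆ = ⁅z, a⁻¹ * y * a⁆ := by
  have h1 := (mem_center_iff.mp h) a
  have h2 : ⁅a * z * a⁻¹, y⁆ = a * ⁅z, a⁻¹ * y * a⁆ * a⁻¹ := by
    simp only [commutatorElement_def]; group
  rw [h2, h1, mul_inv_cancel_right]

theorem polar {K : Subgroup G} [hKn : K.Normal] {a z : G}
    (hcomm : ∀ y ∈ K, Commute y (a * y * a⁻¹)) (hz : z ∈ K)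
    (hzc : ∀ y ∈ K, ⁅z, y⁆ ∈ center G) {y : G} (hy : y ∈ K) :
    ⁅z, a * y * a⁻¹⁆ = ⁅z, a⁻¹ * y * a⁆ := by
  have hy1 : a * y * a⁻¹ ∈ K := hKn.conj_mem y hy a
  have hy2 : a⁻¹ * y * a ∈ K := by simpa using hKn.conj_mem y hy a⁻¹
  rw [← br_conj (hzc _ hy2)]
  have c1 := hcomm y hy
  have c2 := hcomm z hz
  have c3 := hcomm (y * z) (K.mul_mem hy hz)
  have m1 : ∀ g, g * ⁅z, a * y * a⁻¹⁆ = ⁅z, a * y * a⁻¹⁆ * g := mem_center_iff.mp (hzc _ hy1)
  have m2 : ∀ g, g * ⁅a * z * a⁻¹, y⁆ = ⁅a * z * a⁻¹, y⁆ * g := by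
    rw [br_conj (hzc _ hy2)]; exact mem_center_iff.mp (hzc _ hy2)
  generalize hy' : a * y * a⁻¹ = y' at *
  generalize hz' : a * z * a⁻¹ = z' at *
  have e3 : a * (y * z) * a⁻¹ = y' * z' := by rw [← hy', ← hz']; group
  rw [e3] at c3
  have f1 : z * y' = ⁅z, y'⁆ * (y' * z) := by simp only [commutatorElement_def]; group
  have f2 : z' * y = ⁅z', y⁆ * (y * z') := by simp only [commutatorElement_def]; group
  have l : y * z * (y' * z') = ⁅z, y'⁆ * (y * y' * (z * z')) := by
    calc y * z * (y' * z') = y * (z * y') * z' := by group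
      _ = y * ⁅z, y'⁆ * (y' * z * z') := by rw [f1]; group
      _ = _ := by rw [m1 y]; group
  have r : y' * z' * (y * z) = ⁅z', y⁆ * (y * y' * (z * z')) := by
    calc y' * z' * (y * z) = y' * (z' * y) * z := by group
      _ = y' * ⁅z', y⁆ * (y * z' * z) := by rw [f2]; group
      _ = ⁅z', y⁆ * (y' * y * (z' * z)) := by rw [m2 y']; group
      _ = _ := by rw [← c1.eq, ← c2.eq]
  have := c3.eq
  rw [l, r] at this
  exact mul_right_cancel this

theorem core {K A : Subgroup G} [hKn : K.Normal] {a z : G} (hA : A = zpowers a)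
    (hodd : Odd (orderOf a)) (hKA : ⁅K, A⁆ = K) (hcomm : ∀ y ∈ K, Commute y (a * y * a⁻¹))
    (hz : z ∈ K) (hzc : ∀ y ∈ K, ⁅z, y⁆ ∈ center G) : ∀ y ∈ K, z * y = y * z := by
  have hcj : ∀ (g : G), ∀ y ∈ K, g * y * g⁻¹ ∈ K := fun g y hy => hKn.conj_mem y hy g
  have s2 : ∀ y ∈ K, ⁅z, a ^ 2 * y * (a ^ 2)⁻¹⁆ = ⁅z, y⁆ := by
    intro y hy
    have := polar hcomm hz hzc (hcj a y hy)
    have e1 : a * (a * y * a⁻¹) * a⁻¹ = a ^ 2 * y * (a ^ 2)⁻¹ := by simp only [pow_two]; group
    have e2 : a⁻¹ * (a * y * a⁻¹) * a = y := by group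
    rw [e1, e2] at this
    exact this
  have s2n : ∀ n : ℕ, ∀ y ∈ K, ⁅z, (a ^ 2) ^ n * y * ((a ^ 2) ^ n)⁻¹⁆ = ⁅z, y⁆ := by
    intro n
    induction n with
    | zero => intro y _; simp
    | succ n ih =>
      intro y hy
      have e : (a ^ 2) ^ (n + 1) * y * ((a ^ 2) ^ (n + 1))⁻¹ =
          a ^ 2 * ((a ^ 2) ^ n * y * ((a ^ 2) ^ n)⁻¹) * (a ^ 2)⁻¹ := by
        rw [pow_succ' (a ^ 2) n]; group
      rw [e, s2 _ (hcj _ y hy), ih y hy]
  obtain ⟨m, hm⟩ := hodd
  have ha : (a ^ 2) ^ (m + 1) = a := by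
    rw [← pow_mul, show 2 * (m + 1) = orderOf a + 1 by omega, pow_succ, pow_orderOf_eq_one, one_mul]
  have s1 : ∀ b ∈ A, ∀ y ∈ K, ⁅z, b * y * b⁻¹⁆ = ⁅z, y⁆ := by
    intro b hb
    have key : ∀ n : ℕ, ∀ y ∈ K, ⁅z, a ^ n * y * (a ^ n)⁻¹⁆ = ⁅z, y⁆ := by
      intro n y hy
      have := s2n ((m + 1) * n) y hy
      rwa [pow_mul, ha] at this
    have hfin : IsOfFinOrder a := orderOf_pos_iff.mp (by omega)
    rw [hA] at hb
    obtain ⟨n, rfl⟩ := hfin.mem_powers_iff_mem_zpowers.mpr hb
    exact key n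
  have hle : ⁅K, A⁆ ≤ Subgroup.centralizer {z} := by
    rw [commutator_le]
    intro y hy b hb
    have hy' : b * y⁻¹ * b⁻¹ ∈ K := hcj b _ (K.inv_mem hy)
    have e : ⁅y, b⁆ = y * (b * y⁻¹ * b⁻¹) := by simp only [commutatorElement_def]; group
    have h1 : ⁅z, ⁅y, b⁆⁆ = 1 := by
      rw [e, br_mul (hzc _ hy'), s1 b hb _ (K.inv_mem hy), ← br_mul (hzc _ (K.inv_mem hy)),
        mul_inv_cancel, commutatorElement_one_right]
    rw [mem_centralizer_singleton_iff]
    exact (commutatorElement_eq_one_iff_mul_comm.mp h1).symm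
  rw [hKA] at hle
  intro y hy
  exact ((mem_centralizer_singleton_iff.mp (hle hy))).symm

end core


section caseI

theorem fpf (n : ℕ) : ∀ {G : Type u} [Group G] [Finite G], Nat.card G ≤ n →
    ∀ (r : ℕ) [Fact r.Prime] (K A : Subgroup G) (a : G), IsPGroup r K → K.Normal → A = zpowers a →
    Odd (orderOf a) → (Nat.card A).Coprime (Nat.card K) → K ⊔ A = ⊤ → ⁅K, A⁆ = K →
    (∀ x ∈ K, Commute ⁅x, a⁆ (a * ⁅x, a⁆ * a⁻¹)) → K ⊓ centralizer (A : Set G) = ⊥ := by
  induction n with
  | zero =>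
    intro G _ _ hn
    have := Nat.card_pos (α := G)
    omega
  | succ n ih =>
    intro G _ _ hn r _ K A a hK hKn hA hodd hcop htop hKA hu
    by_contra hC
    set C := K ⊓ centralizer (A : Set G) with hCdef
    have hCK : C ≤ K := inf_le_left
    have hcj : ∀ (g : G), ∀ y ∈ K, g * y * g⁻¹ ∈ K := fun g y hy => hKn.conj_mem y hy g
    have hsolv : Group.IsSolvable K := by
      haveI : Group.IsNilpotent K := IsPGroup.isNilpotent hK
      infer_instance
    have hAK : A ≤ normalizer (K : Set G) := by rw [normalizer_eq_top]; exact le_top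
    -- every nontrivial normal subgroup of G inside K contains C
    have hmin : ∀ N : Subgroup G, N.Normal → N ≤ K → N ≠ ⊥ → C ≤ N := by
      intro N hN hNK hN1 c hc
      have hlt : Nat.card (G ⧸ N) ≤ n := by
        have h1 := Subgroup.card_eq_card_quotient_mul_card_subgroup N
        have h2 : 1 < Nat.card N := (one_lt_card_iff_ne_bot N).mpr hN1
        have h3 : 0 < Nat.card (G ⧸ N) := Nat.card_pos
        have h4 : 2 * Nat.card (G ⧸ N) ≤ Nat.card G := by
          rw [h1]; nlinarith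
        omega
      set π := QuotientGroup.mk' N with hπ
      have hsurj : Function.Surjective π := QuotientGroup.mk'_surjective N
      have hdv : orderOf (π a) ∣ orderOf a := orderOf_map_dvd π a
      have key := ih hlt r (K.map π) (A.map π) (π a) (hK.map π) (hKn.map π hsurj)
        (by rw [hA, MonoidHom.map_zpowers]) (Odd.of_dvd_nat hodd hdv)
        ((hcop.coprime_dvd_left (A.card_map_dvd π)).coprime_dvd_right (K.card_map_dvd π))
        (by rw [← Subgroup.map_sup, htop]; exact Subgroup.map_top_of_surjective π hsurj)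
        (by rw [← Subgroup.map_commutator, hKA])
        (by
          rintro _ ⟨x, hx, rfl⟩
          have := (hu x hx).map π
          simpa only [map_commutatorElement, map_mul, map_inv] using this)
      have hmem : π c ∈ K.map π ⊓ centralizer ((A.map π : Subgroup (G ⧸ N)) : Set (G ⧸ N)) := by
        refine mem_inf.mpr ⟨⟨c, hc.1, rfl⟩, ?_⟩
        rw [mem_centralizer_iff]
        rintro _ ⟨b, hb, rfl⟩
        have := mem_centralizer_iff.mp hc.2 b hb
        rw [← map_mul, ← map_mul, this]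
      rw [key, mem_bot] at hmem
      exact (QuotientGroup.eq_one_iff c).mp hmem
    have hK1 : K ≠ ⊥ := fun h => hC (by rw [eq_bot_iff, ← h]; exact hCK)
    -- the centre of K
    set Z := (center K).map K.subtype with hZ
    have hZn : Z.Normal := ConjAct.normal_of_characteristic_of_normal
    have hZ1 : Z ≠ ⊥ := by
      haveI : Nontrivial K := (nontrivial_iff_ne_bot K).mpr hK1
      have := hK.center_nontrivial
      intro h
      have h2 : center K = ⊥ := by
        rwa [hZ, map_eq_bot_iff_of_injective _ K.subtype_injective] at h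
      exact (nontrivial_iff_ne_bot _).mp this h2
    have hZK : Z ≤ K := by rw [hZ]; exact map_subtype_le _
    have hCZ : C ≤ Z := hmin Z hZn hZK hZ1
    have hZc : ∀ z ∈ Z, ∀ y ∈ K, z * y = y * z := by
      rintro _ ⟨z, hz, rfl⟩ y hy
      have := mem_center_iff.mp hz ⟨y, hy⟩
      exact (congrArg Subtype.val this).symm
    have hCc : C ≤ center G := by
      intro c hc
      have h1 : (⊤ : Subgroup G) ≤ centralizer {c} := by
        rw [← htop, sup_le_iff]
        refine ⟨fun y hy => mem_centralizer_singleton_iff.mpr (hZc c (hCZ hc) y hy).symm,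
          fun b hb => mem_centralizer_singleton_iff.mpr ?_⟩
        exact (mem_centralizer_iff.mp hc.2 b hb)
      rw [mem_center_iff]
      intro g
      exact (mem_centralizer_singleton_iff.mp (h1 (mem_top g)))
    have hCn : C.Normal := by
      refine ⟨fun c hc g => ?_⟩
      have := mem_center_iff.mp (hCc hc) g
      rwa [this, mul_inv_cancel_right]
    -- [Z, A] is trivial
    haveI hZab : IsMulCommutative Z := ⟨⟨fun x y => Subtype.ext (hZc x x.2 y (hZK y.2))⟩⟩
    have hAZ : A ≤ normalizer (Z : Set G) := by rw [normalizer_eq_top]; exact le_top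
    have h55 := Cfsg.Agent.S0055.result A Z hAZ (hcop.coprime_dvd_right (card_dvd_of_le hZK))
    have hM1 : ⁅Z, A⁆ = ⊥ := by
      by_contra hM
      have hMn : (⁅Z, A⁆ : Subgroup G).Normal := by
        have hMZ : ⁅Z, A⁆ ≤ Z := commutator_le_left Z A
        rw [← normalizer_eq_top_iff, eq_top_iff, ← htop, sup_le_iff]
        constructor
        · intro k hk
          rw [mem_normalizer_iff]
          intro h
          constructor
          · intro hh
            rwa [← hZc h (hMZ hh) k hk, mul_inv_cancel_right]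
          · intro hh
            have h2 : k⁻¹ * (k * h * k⁻¹) * k = k * h * k⁻¹ := by
              have := hZc _ (hMZ hh) k hk
              rw [mul_assoc, this, inv_mul_cancel_left]
            have h3 : k⁻¹ * (k * h * k⁻¹) * k = h := by group
            rw [← h3, h2]
            exact hh
        · exact Cfsg.Agent.Lib.CoprimeCommutator.right_le_normalizer_commutator Z A
      have hMZ : ⁅Z, A⁆ ≤ Z := commutator_le_left Z A
      have h1 : C ≤ ⁅Z, A⁆ := hmin _ hMn (hMZ.trans hZK) hM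
      apply hC
      rw [eq_bot_iff, ← h55.1]
      intro c hc
      exact ⟨⟨hCZ hc, hc.2⟩, h1 hc⟩
    have hZC : Z = C := by
      refine le_antisymm ?_ hCZ
      have := h55.2
      rw [hM1, sup_bot_eq] at this
      rw [← this]
      exact le_inf (inf_le_left.trans hZK) inf_le_right
    -- fixed-point-free action on K/C
    set π := QuotientGroup.mk' C with hπ
    have hsurj : Function.Surjective π := QuotientGroup.mk'_surjective C
    have hfix : K.map π ⊓ centralizer ((A.map π : Subgroup (G ⧸ C)) : Set (G ⧸ C)) = ⊥ := by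
      rw [eq_bot_iff]
      rintro _ ⟨⟨k, hk, rfl⟩, hkc⟩
      have h1 : ∀ b ∈ A, b * k * b⁻¹ * k⁻¹ ∈ C := by
        intro b hb
        have h2 := mem_centralizer_iff.mp hkc (π b) ⟨b, hb, rfl⟩
        rw [← QuotientGroup.eq_one_iff]
        have h3 : ((b * k * b⁻¹ * k⁻¹ : G) : G ⧸ C) = π b * π k * (π b)⁻¹ * (π k)⁻¹ := rfl
        rw [h3, h2, mul_inv_cancel_right, mul_inv_cancel]
      obtain ⟨c, hc, hc2⟩ := Cfsg.Agent.S0022.result A K hAK hcop (Or.inr hsolv) C hCK
        (by rw [normalizer_eq_top]; exact le_top) (by rw [normalizer_eq_top]; exact le_top) k hk h1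
      have hkC : k ∈ C := by
        have h4 : k = c * (k⁻¹ * c)⁻¹ := by group
        rw [h4]
        exact C.mul_mem hc (C.inv_mem hc2)
      rw [mem_bot]
      exact (QuotientGroup.eq_one_iff k).mpr hkC
    have hKπ : (K.map π).Normal := hKn.map π hsurj
    let f : K.map π → K.map π := fun x => ⟨⁅(x : G ⧸ C), π a⁆, by
      have e : ⁅(x : G ⧸ C), π a⁆ = x * (π a * (x : G ⧸ C)⁻¹ * (π a)⁻¹) := by
        simp only [commutatorElement_def]; group
      rw [e]
      exact mul_mem x.2 (hKπ.conj_mem _ (inv_mem x.2) _)⟩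
    have hf : Function.Injective f := by
      rintro ⟨x, hx⟩ ⟨w, hw⟩ h
      have h1 : ⁅x, π a⁆ = ⁅w, π a⁆ := congrArg Subtype.val h
      have h2 : (w⁻¹ * x) * π a = π a * (w⁻¹ * x) := by
        simp only [commutatorElement_def] at h1
        have h3 : x * π a * x⁻¹ = w * π a * w⁻¹ := mul_right_cancel h1
        calc (w⁻¹ * x) * π a = w⁻¹ * (x * π a * x⁻¹) * x := by group
          _ = w⁻¹ * (w * π a * w⁻¹) * x := by rw [h3]
          _ = _ := by group
      have h4 : w⁻¹ * x ∈ K.map π ⊓ centralizer ((A.map π : Subgroup (G ⧸ C)) : Set (G ⧸ C)) := by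
        refine mem_inf.mpr ⟨mul_mem (inv_mem hw) hx, ?_⟩
        rw [hA, MonoidHom.map_zpowers, mem_centralizer_iff]
        rintro _ ⟨m, rfl⟩
        exact ((show Commute (w⁻¹ * x) (π a) from h2).zpow_right m).eq.symm
      rw [hfix, mem_bot] at h4
      exact Subtype.ext (inv_mul_eq_one.mp h4).symm
    have hfs : Function.Surjective f := Finite.surjective_of_injective hf
    have hall : ∀ y ∈ K, Commute y (a * y * a⁻¹) := by
      intro y hy
      obtain ⟨⟨_, ⟨x, hx, rfl⟩⟩, hx2⟩ := hfs ⟨π y, ⟨y, hy, rfl⟩⟩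
      have h1 : ⁅π x, π a⁆ = π y := congrArg Subtype.val hx2
      rw [← map_commutatorElement] at h1
      have h2 : ⁅x, a⁆⁻¹ * y ∈ C := by
        rw [← QuotientGroup.eq]
        exact h1
      have h3 : y = ⁅x, a⁆ * (⁅x, a⁆⁻¹ * y) := by group
      have hc : ∀ g, g * (⁅x, a⁆⁻¹ * y) = (⁅x, a⁆⁻¹ * y) * g := mem_center_iff.mp (hCc h2)
      have hu' := hu x hx
      generalize ⁅x, a⁆⁻¹ * y = c at *
      generalize ⁅x, a⁆ = v at *
      subst h3
      have e : a * (v * c) * a⁻¹ = (a * v * a⁻¹) * c := by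
        rw [mul_assoc, mul_assoc, ← hc a⁻¹]; group
      rw [e]
      have c1 : ∀ g, Commute g c := hc
      exact ((hu'.mul_left (c1 _).symm).mul_right (c1 _))
    have hKC : ¬ K ≤ C := by
      intro h
      apply hK1
      rw [← hKA, commutator_eq_bot_iff_le_centralizer]
      intro k hk
      exact (h hk).2
    -- a central element of K/C
    have hex : ∃ z ∈ K, z ∉ C ∧ ∀ y ∈ K, ⁅z, y⁆ ∈ C := by
      haveI : (C.subgroupOf K).Normal := inferInstance
      haveI : Nontrivial (K ⧸ C.subgroupOf K) := by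
        rw [QuotientGroup.nontrivial_iff]
        intro h
        exact hKC (subgroupOf_eq_top.mp h)
      have hKq : IsPGroup r (K ⧸ C.subgroupOf K) := hK.to_quotient _
      haveI := hKq.center_nontrivial
      obtain ⟨⟨z, hz⟩, hz1⟩ := exists_ne (1 : center (K ⧸ C.subgroupOf K))
      obtain ⟨z, rfl⟩ := QuotientGroup.mk_surjective z
      refine ⟨z, z.2, fun h => hz1 (Subtype.ext ((QuotientGroup.eq_one_iff z).mpr h)), fun y hy => ?_⟩
      have h1 := mem_center_iff.mp hz ((⟨y, hy⟩ : K) : K ⧸ C.subgroupOf K)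
      have h2 : ⁅z, ⟨y, hy⟩⁆ ∈ C.subgroupOf K := by
        rw [← QuotientGroup.eq_one_iff]
        have : ((⁅z, ⟨y, hy⟩⁆ : K) : K ⧸ C.subgroupOf K) = ⁅(z : K ⧸ C.subgroupOf K), ((⟨y, hy⟩ : K) : K ⧸ C.subgroupOf K)⁆ := rfl
        rw [this, commutatorElement_eq_one_iff_mul_comm]
        exact h1.symm
      exact mem_subgroupOf.mp h2
    obtain ⟨z, hz, hzC, hzy⟩ := hex
    have := core hA hodd hKA hall hz (fun y hy => hCc (hzy y hy))
    apply hzC
    rw [← hZC, hZ]
    refine ⟨⟨z, hz⟩, ?_, rfl⟩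
    rw [SetLike.mem_coe, mem_center_iff]
    intro y
    exact Subtype.ext (this y y.2).symm

end caseI

section caseII

variable {G : Type u} [Group G]

theorem lcs_normal (K : Subgroup G) [hK : K.Normal] (n : ℕ) : (K.lowerCentralSeries n).Normal := by
  induction n with
  | zero => exact hK
  | succ n ih =>
    rw [Subgroup.lowerCentralSeries_succ]
    exact commutator_normal _ _

theorem caseII [Finite G] {K A : Subgroup G} [hKn : K.Normal] (hnil : Group.IsNilpotent K)
    (hKA : ⁅K, A⁆ = K) (hcop : (Nat.card A).Coprime (Nat.card K)) (hdisj : K ⊓ A = ⊥)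
    (hY : ∀ x ∈ K, x ∉ centralizer (A : Set G) → ∃ u v : G,
      u ∈ K ⊓ (A ⊔ A.map (MulAut.conj x).toMonoidHom) ∧
      v ∈ K ⊓ (A ⊔ A.map (MulAut.conj x).toMonoidHom) ∧ u * v ≠ v * u) :
    K ⊓ centralizer (A : Set G) ≤ centralizer (K : Set G) := by
  classical
  obtain ⟨n, hn⟩ := (Subgroup.isNilpotent_iff_lowerCentralSeries K).mp hnil
  have hex : ∃ m, K.lowerCentralSeries m ≤ centralizer (A : Set G) := ⟨n, by rw [hn]; exact bot_le⟩
  obtain ⟨m, hm, hmin⟩ : ∃ m, K.lowerCentralSeries m ≤ centralizer (A : Set G) ∧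
      ∀ k < m, ¬ K.lowerCentralSeries k ≤ centralizer (A : Set G) :=
    ⟨Nat.find hex, Nat.find_spec hex, fun k hk => Nat.find_min hex hk⟩
  rcases m with _ | i
  · -- K centralised by A
    have : ⁅K, A⁆ = ⊥ := by
      rw [commutator_eq_bot_iff_le_centralizer]
      exact hm
    rw [hKA] at this
    rw [this]
    exact inf_le_left.trans bot_le
  have hi := hmin i (Nat.lt_succ_self i)
  have hni := lcs_normal K i
  have hni1 := lcs_normal K (i + 1)
  have hKi : K.lowerCentralSeries i ≤ K := by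
    simpa using Subgroup.lowerCentralSeries_antitone K (Nat.zero_le i)
  have hi1K : K.lowerCentralSeries (i + 1) ≤ K := by
    simpa using Subgroup.lowerCentralSeries_antitone K (Nat.zero_le (i + 1))
  -- γ_{i+1} is centralised by K
  have h1 : ⁅K.lowerCentralSeries (i + 1), A⁆ = ⊥ := by
    rw [commutator_eq_bot_iff_le_centralizer]; exact hm
  have h2 : ⁅⁅K, K.lowerCentralSeries (i + 1)⁆, A⁆ = ⊥ := by
    rw [eq_bot_iff, ← h1]
    refine commutator_mono ?_ le_rfl
    exact commutator_le_right K (K.lowerCentralSeries (i + 1))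
  have h3 : ⁅⁅K.lowerCentralSeries (i + 1), A⁆, K⁆ = ⊥ := by
    rw [h1, commutator_bot_left]
  have h4 : ⁅⁅A, K⁆, K.lowerCentralSeries (i + 1)⁆ = ⊥ :=
    commutator_commutator_eq_bot_of_rotate h2 h3
  have h5 : ⁅K, K.lowerCentralSeries (i + 1)⁆ = ⊥ := by
    rwa [commutator_comm A K, hKA] at h4
  rcases i with _ | j
  · -- class two
    have h6 : ⁅K, K⁆ ≤ centralizer (K : Set G) := by
      have : K.lowerCentralSeries 1 ≤ centralizer (K : Set G) := by
        rw [← commutator_eq_bot_iff_le_centralizer, commutator_comm]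
        exact h5
      exact this
    refine le_trans ?_ h6
    have hKK : (⁅K, K⁆ : Subgroup G).Normal := commutator_normal _ _
    set π := QuotientGroup.mk' ⁅K, K⁆ with hπ
    have hsurj : Function.Surjective π := QuotientGroup.mk'_surjective _
    have hKπ : (K.map π).Normal := hKn.map π hsurj
    have hab : IsMulCommutative (K.map π) := by
      refine ⟨⟨?_⟩⟩
      rintro ⟨_, ⟨k, hk, rfl⟩⟩ ⟨_, ⟨l, hl, rfl⟩⟩
      apply Subtype.ext
      change π k * π l = π l * π k
      rw [← commutatorElement_eq_one_iff_mul_comm, ← map_commutatorElement]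
      exact (QuotientGroup.eq_one_iff _).mpr (commutator_mem_commutator hk hl)
    have h55 := Cfsg.Agent.S0055.result (A.map π) (K.map π)
      (by rw [normalizer_eq_top]; exact le_top)
      ((hcop.coprime_dvd_left (A.card_map_dvd π)).coprime_dvd_right (K.card_map_dvd π))
    rw [← Subgroup.map_commutator, hKA] at h55
    intro c hc
    have hmem : π c ∈ K.map π ⊓ centralizer ((A.map π : Subgroup _) : Set (G ⧸ ⁅K, K⁆)) ⊓ K.map π := by
      refine mem_inf.mpr ⟨mem_inf.mpr ⟨⟨c, hc.1, rfl⟩, ?_⟩, ⟨c, hc.1, rfl⟩⟩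
      rw [mem_centralizer_iff]
      rintro _ ⟨b, hb, rfl⟩
      have := mem_centralizer_iff.mp hc.2 b hb
      rw [← map_mul, ← map_mul, this]
    rw [h55.1, mem_bot] at hmem
    exact (QuotientGroup.eq_one_iff c).mp hmem
  · exfalso
    obtain ⟨x, hx, hxc⟩ := SetLike.not_le_iff_exists.mp hi
    obtain ⟨u, v, hu, hv, huv⟩ := hY x (hKi hx) hxc
    -- everything lies in γ_i
    have hle : A ⊔ A.map (MulAut.conj x).toMonoidHom ≤ K.lowerCentralSeries (j + 1) ⊔ A := by
      refine sup_le le_sup_right ?_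
      rintro _ ⟨b, hb, rfl⟩
      have hxm : x ∈ K.lowerCentralSeries (j + 1) ⊔ A := le_sup_left (α := Subgroup G) hx
      have hbm : b ∈ K.lowerCentralSeries (j + 1) ⊔ A := le_sup_right (α := Subgroup G) hb
      exact mul_mem (mul_mem hxm hbm) (inv_mem hxm)
    have hmod : K ⊓ (K.lowerCentralSeries (j + 1) ⊔ A) ≤ K.lowerCentralSeries (j + 1) := by
      intro w hw
      obtain ⟨g, hg, b, hb, rfl⟩ := mem_sup_of_normal_left.mp hw.2
      have hbK : b ∈ K := by
        have := K.mul_mem (K.inv_mem (hKi hg)) hw.1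
        rwa [inv_mul_cancel_left] at this
      have hb1 : b ∈ K ⊓ A := ⟨hbK, hb⟩
      rw [hdisj, mem_bot] at hb1
      rwa [hb1, mul_one]
    have hcc : ⁅⁅K, K⁆, K.lowerCentralSeries (j + 1)⁆ = ⊥ := by
      apply commutator_commutator_eq_bot_of_rotate
      · rw [commutator_comm K (K.lowerCentralSeries (j + 1)), commutator_comm]
        exact h5
      · rw [commutator_comm]
        exact h5
    have hKK : K.lowerCentralSeries (j + 1) ≤ ⁅K, K⁆ := by
      have := Subgroup.lowerCentralSeries_antitone K (show 1 ≤ j + 1 by omega)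
      exact this
    have hu' := hmod ⟨hu.1, hle hu.2⟩
    have hv' := hmod ⟨hv.1, hle hv.2⟩
    have := (commutator_eq_bot_iff_le_centralizer.mp hcc) (hKK hu')
    exact huv (mem_centralizer_iff.mp this v hv').symm

end caseII

end Cfsg.Agent.H304.PairFrob
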