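import Cfsg.Agent.H304.PairCore
import Cfsg.Agent.S0017
import Cfsg.Agent.S0039
import Cfsg.Agent.S0205
import Cfsg.Agent.S0007
import Cfsg.Agent.S1250
import Cfsg.Agent.Lib.Cores
import Cfsg.Agent.Involutions.BaerSuzuki
import Cfsg.Agent.Lib.CoprimeHyperplane
import Cfsg.Agent.Transfer.TausskyTwoGroup
import Cfsg.Agent.OddOrderLocal.DecompBasic

/-! The odd order part of S3257 (with helper543). -/

set_option autoImplicit false
set_option linter.style.haveILetI false
set_option linter.unusedSectionVars false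

universe u

open Subgroup
open scoped commutatorElement

namespace Cfsg.Agent.H304.PairFrob

variable {G : Type u} [Group G]

/-- a normal subgroup of order `p` of a `p`-group `P` is central. -/
theorem le_centralizer_of_card [Finite G] {p : ℕ} [Fact p.Prime] {P A : Subgroup G} (hP : IsPGroup p P)
    (hA : Nat.card A = p) (hAP : A ≤ P) (hn : P ≤ normalizer (A : Set G)) :
    P ≤ centralizer (A : Set G) := by
  haveI : (A.subgroupOf P).Normal := normal_subgroupOf_of_le_normalizer hn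
  have hcard : Nat.card (A.subgroupOf P) = p := by
    rw [← hA]; exact Nat.card_congr (subgroupOfEquivOfLe hAP).toEquiv
  have hne : A.subgroupOf P ≠ ⊥ := by
    rw [← one_lt_card_iff_ne_bot, hcard]; exact (Fact.out : p.Prime).one_lt
  obtain ⟨Z, hZ, hZc, hZp⟩ :=
    Cfsg.Agent.Transfer.TausskyTwoGroup.exists_central_card_prime_le hP (A.subgroupOf P) hne
  have hZA : Z = A.subgroupOf P := eq_of_le_of_card_ge hZ (by rw [hcard, hZp])
  intro x hx
  rw [mem_centralizer_iff]
  intro b hb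
  have hb' : (⟨b, hAP hb⟩ : P) ∈ A.subgroupOf P := mem_subgroupOf.mpr hb
  rw [← hZA] at hb'
  have := mem_center_iff.mp (hZc hb') ⟨x, hx⟩
  exact (congrArg Subtype.val this).symm

theorem exists_gen [Finite G] {p : ℕ} (hp : p.Prime) {A : Subgroup G} (hA : Nat.card A = p) {b : G} (hb : b ∈ A)
    (hb1 : b ≠ 1) : A = zpowers b := by
  refine (eq_of_le_of_card_ge (by rwa [zpowers_le]) ?_).symm
  have h1 : Nat.card (zpowers b) ∣ Nat.card A := card_dvd_of_le (by rwa [zpowers_le])
  rw [hA, Nat.dvd_prime hp] at h1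
  rcases h1 with h1 | h1
  · exfalso
    rw [Nat.card_zpowers, orderOf_eq_one_iff] at h1
    exact hb1 h1
  · rw [hA, h1]

theorem mem_of_orderOf_pow [Finite G] {r p : ℕ} (hr : r.Prime) (hp : p.Prime) (hrp : r ≠ p) {K A : Subgroup G}
    [K.Normal] (hAp : Nat.card A = p) (htop : K ⊔ A = ⊤) {u : G} {k : ℕ} (hu : orderOf u = r ^ k) : u ∈ K := by
  set π := QuotientGroup.mk' K
  have h1 : A.map π = ⊤ := by
    have h2 : (K ⊔ A).map π = ⊤ := by
      rw [htop]; exact Subgroup.map_top_of_surjective π (QuotientGroup.mk'_surjective K)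
    have h3 : K.map π = ⊥ := by
      rw [Subgroup.map_eq_bot_iff, QuotientGroup.ker_mk']
    rwa [Subgroup.map_sup, h3, bot_sup_eq] at h2
  have h2 : Nat.card (G ⧸ K) ∣ p := by
    have := A.card_map_dvd π
    rwa [h1, card_top, hAp] at this
  have h3 : orderOf (π u) ∣ p := (_root_.orderOf_dvd_natCard _).trans h2
  have h4 : orderOf (π u) ∣ r ^ k := by rw [← hu]; exact orderOf_map_dvd π u
  have h5 : (r ^ k).Coprime p := Nat.Coprime.pow_left k ((Nat.coprime_primes hr hp).mpr hrp)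
  have h6 : orderOf (π u) = 1 := Nat.eq_one_of_dvd_coprimes h5 h4 h3
  rw [orderOf_eq_one_iff] at h6
  exact (QuotientGroup.eq_one_iff u).mp h6

theorem key [Finite G] {r p : ℕ} [Fact r.Prime] (hp : p.Prime) (hp2 : p ≠ 2) (hrp : r ≠ p) {K A : Subgroup G}
    [hKn : K.Normal] (hK : IsPGroup r K) (hAp : Nat.card A = p) (htop : K ⊔ A = ⊤) (hKA : ⁅K, A⁆ = K)
    {F : Type*} [Group F]
    (hpair : ∀ x ∈ K, x ∉ centralizer (A : Set G) →
      Nonempty (↥(A ⊔ A.map (MulAut.conj x).toMonoidHom) ≃* F)) :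
    K ⊓ centralizer (A : Set G) ≤ centralizer (K : Set G) := by
  have hr : r.Prime := Fact.out
  have hcop : (Nat.card A).Coprime (Nat.card K) := by
    obtain ⟨m, hm⟩ := IsPGroup.iff_card.mp hK
    rw [hAp, hm]
    exact Nat.Coprime.pow_right m ((Nat.coprime_primes hp hr).mpr (Ne.symm hrp))
  have hdisj : K ⊓ A = ⊥ := by
    rw [inf_comm]; exact (Subgroup.disjoint_of_coprime_natCard hcop).eq_bot
  obtain ⟨a, ha, ha1⟩ : ∃ a ∈ A, a ≠ 1 := by
    by_contra h
    push Not at h
    have : A = ⊥ := (eq_bot_iff_forall _).mpr h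
    rw [this, card_bot] at hAp
    exact hp.one_lt.ne hAp
  have hAa : A = zpowers a := exists_gen hp hAp ha ha1
  have hoa : orderOf a = p := by rw [← Nat.card_zpowers, ← hAa, hAp]
  have hodd : Odd (orderOf a) := by rw [hoa]; exact hp.odd_of_ne_two hp2
  have hord : ∀ x ∈ K, ∃ k, orderOf x = r ^ k := by
    intro x hx
    obtain ⟨k, hk⟩ := IsPGroup.iff_orderOf.mp hK ⟨x, hx⟩
    exact ⟨k, by rw [← hk]; exact (orderOf_mk x hx).symm⟩
  by_cases hF : ∀ u v : F, (∃ k, orderOf u = r ^ k) → (∃ k, orderOf v = r ^ k) → u * v = v * u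
  · -- case I
    have hu : ∀ x ∈ K, Commute ⁅x, a⁆ (a * ⁅x, a⁆ * a⁻¹) := by
      intro x hx
      by_cases hxc : x ∈ centralizer (A : Set G)
      · have h1 : ⁅x, a⁆ = 1 := by
          rw [commutatorElement_eq_one_iff_mul_comm]
          exact (mem_centralizer_iff.mp hxc a ha).symm
        rw [h1]
        exact Commute.one_left _
      · obtain ⟨e⟩ := hpair x hx hxc
        have hcj : ∀ g y, y ∈ K → g * y * g⁻¹ ∈ K := fun g y hy => hKn.conj_mem y hy g
        have hB1 : a ∈ A ⊔ A.map (MulAut.conj x).toMonoidHom := le_sup_left (α := Subgroup G) ha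
        have hB2 : x * a * x⁻¹ ∈ A ⊔ A.map (MulAut.conj x).toMonoidHom :=
          le_sup_right (α := Subgroup G) ⟨a, ha, rfl⟩
        have hB3 : ⁅x, a⁆ ∈ A ⊔ A.map (MulAut.conj x).toMonoidHom := by
          rw [commutatorElement_def]
          exact mul_mem hB2 (inv_mem hB1)
        have hB4 : a * ⁅x, a⁆ * a⁻¹ ∈ A ⊔ A.map (MulAut.conj x).toMonoidHom :=
          mul_mem (mul_mem hB1 hB3) (inv_mem hB1)
        have hK3 : ⁅x, a⁆ ∈ K := by
          have e1 : ⁅x, a⁆ = x * (a * x⁻¹ * a⁻¹) := by simp only [commutatorElement_def]; group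
          rw [e1]
          exact mul_mem hx (hcj a _ (inv_mem hx))
        have hK4 : a * ⁅x, a⁆ * a⁻¹ ∈ K := hcj a _ hK3
        have h1 := hF (e ⟨_, hB3⟩) (e ⟨_, hB4⟩)
          (by rw [MulEquiv.orderOf_eq, orderOf_mk]; exact hord _ hK3)
          (by rw [MulEquiv.orderOf_eq, orderOf_mk]; exact hord _ hK4)
        rw [← map_mul, ← map_mul] at h1
        exact congrArg Subtype.val (e.injective h1)
    rw [fpf (Nat.card G) le_rfl r K A a hK hKn hAa hodd hcop htop hKA hu]
    exact bot_le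
  · push Not at hF
    obtain ⟨u, v, ⟨k, hk⟩, ⟨l, hl⟩, huv⟩ := hF
    haveI : Group.IsNilpotent K := IsPGroup.isNilpotent hK
    refine caseII inferInstance hKA hcop hdisj ?_
    intro x hx hxc
    obtain ⟨e⟩ := hpair x hx hxc
    refine ⟨(e.symm u : G), (e.symm v : G), ⟨?_, (e.symm u).2⟩, ⟨?_, (e.symm v).2⟩, ?_⟩
    · refine mem_of_orderOf_pow (k := k) hr hp hrp hAp htop ?_
      rw [← hk, ← MulEquiv.orderOf_eq e.symm u, Subgroup.orderOf_coe]
    · refine mem_of_orderOf_pow (k := l) hr hp hrp hAp htop ?_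
      rw [← hl, ← MulEquiv.orderOf_eq e.symm v, Subgroup.orderOf_coe]
    · intro h
      apply huv
      have h1 : e.symm u * e.symm v = e.symm v * e.symm u := Subtype.ext h
      rw [← map_mul, ← map_mul] at h1
      exact e.symm.injective h1

/-- The Frobenius conclusion. -/
theorem frob [Finite G] {r p : ℕ} [Fact r.Prime] (hp : p.Prime) (hrp : r ≠ p) {K A : Subgroup G}
    [hKn : K.Normal] (hK : IsPGroup r K) (hK1 : K ≠ ⊥) (hAp : Nat.card A = p) (htop : K ⊔ A = ⊤)
    (hKA : ⁅K, A⁆ = K) (hC : K ⊓ centralizer (A : Set G) ≤ centralizer (K : Set G)) :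
    Cfsg.IsFrobeniusComplement (A.map (QuotientGroup.mk' (center G))) := by
  have hr : r.Prime := Fact.out
  have hcop : (Nat.card A).Coprime (Nat.card K) := by
    obtain ⟨m, hm⟩ := IsPGroup.iff_card.mp hK
    rw [hAp, hm]
    exact Nat.Coprime.pow_right m ((Nat.coprime_primes hp hr).mpr (Ne.symm hrp))
  have hsolv : Group.IsSolvable K := by
    haveI : Group.IsNilpotent K := IsPGroup.isNilpotent hK
    infer_instance
  have hAK : A ≤ normalizer (K : Set G) := by rw [normalizer_eq_top]; exact le_top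
  have hnc : ¬ A ≤ centralizer (K : Set G) := by
    intro h
    apply hK1
    rw [← hKA, commutator_comm, commutator_eq_bot_iff_le_centralizer]
    exact h
  have hCc : K ⊓ centralizer (A : Set G) ≤ center G := by
    intro c hc
    have h1 : (⊤ : Subgroup G) ≤ centralizer {c} := by
      rw [← htop, sup_le_iff]
      refine ⟨fun y hy => mem_centralizer_singleton_iff.mpr (mem_centralizer_iff.mp (hC hc) y hy),
        fun b hb => mem_centralizer_singleton_iff.mpr (mem_centralizer_iff.mp hc.2 b hb)⟩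
    rw [mem_center_iff]
    intro g
    exact mem_centralizer_singleton_iff.mp (h1 (mem_top g))
  set π := QuotientGroup.mk' (center G) with hπ
  have hsurj : Function.Surjective π := QuotientGroup.mk'_surjective _
  haveI hKπ : (K.map π).Normal := hKn.map π hsurj
  have hcopπ : (Nat.card (K.map π)).Coprime (Nat.card (A.map π)) :=
    ((hcop.coprime_dvd_left (A.card_map_dvd π)).coprime_dvd_right (K.card_map_dvd π)).symm
  have hcompl : IsComplement' (K.map π) (A.map π) := by
    apply isComplement'_of_disjoint_and_mul_eq_univ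
    · exact Subgroup.disjoint_of_coprime_natCard hcopπ
    · have h1 : K.map π ⊔ A.map π = ⊤ := by
        rw [← Subgroup.map_sup, htop]; exact Subgroup.map_top_of_surjective π hsurj
      rw [← Subgroup.normal_mul, h1]
      rfl
  refine (Cfsg.Agent.S0039.result (K.map π) (A.map π) hcompl ?_ ?_).mpr ?_
  · intro h
    rw [Subgroup.map_eq_bot_iff, QuotientGroup.ker_mk'] at h
    apply hnc
    intro b _
    rw [mem_centralizer_iff]
    intro k hk
    exact (mem_center_iff.mp (h hk) b).symm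
  · intro h
    rw [Subgroup.map_eq_bot_iff, QuotientGroup.ker_mk'] at h
    apply hnc
    intro b hb
    rw [mem_centralizer_iff]
    intro k _
    exact (mem_center_iff.mp (h hb) k)
  · rintro _ ⟨b, hb, rfl⟩ hb1
    have hb1' : b ≠ 1 := by
      rintro rfl
      exact hb1 (map_one π)
    have hAb : A = zpowers b := exists_gen hp hAp hb hb1'
    rw [eq_bot_iff]
    rintro _ ⟨⟨k, hk, rfl⟩, hkc⟩
    have hkc' : Commute (π k) (π b) := mem_centralizer_singleton_iff.mp hkc
    have hZn : (K ⊓ center G).Normal := inferInstance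
    obtain ⟨c, hc, hc2⟩ := Cfsg.Agent.S0022.result A K hAK hcop (Or.inr hsolv) (K ⊓ center G) inf_le_left
      (by rw [normalizer_eq_top]; exact le_top) (by rw [normalizer_eq_top]; exact le_top) k hk (by
        intro a' ha'
        rw [hAb] at ha'
        obtain ⟨m, rfl⟩ := ha'
        refine mem_inf.mpr ⟨?_, ?_⟩
        · exact mul_mem (hKn.conj_mem k hk _) (inv_mem hk)
        · have h1 : Commute (π k) (π (b ^ m)) := by rw [map_zpow]; exact hkc'.zpow_right m
          have h2 : π (b ^ m * k * (b ^ m)⁻¹ * k⁻¹) = 1 := by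
            rw [map_mul, map_mul, map_mul, map_inv, map_inv, ← h1.eq, mul_inv_cancel_right, mul_inv_cancel]
          exact (QuotientGroup.eq_one_iff _).mp h2)
    have hkZ : k ∈ center G := by
      have h4 : k = c * (k⁻¹ * c)⁻¹ := by group
      rw [h4]
      exact mul_mem (hCc hc) (inv_mem hc2.2)
    rw [mem_bot]
    exact (QuotientGroup.eq_one_iff k).mpr hkZ

section Main

variable [Finite G] {p : ℕ} {D : Set (Subgroup G)}

theorem self_comm (hp : p.Prime) {A : Subgroup G} (hA : Nat.card A = p) :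
    A ≤ centralizer (A : Set G) := by
  haveI : Fact p.Prime := ⟨hp⟩
  have : IsCyclic A := isCyclic_of_prime_card hA
  exact Subgroup.le_centralizer_iff_isMulCommutative.mpr IsCyclic.isMulCommutative

theorem nocomm (hp : p.Prime) (hDp : ∀ A ∈ D, Nat.card ↥A = p) {F : Type*} [Group F]
    (hF : ¬ IsMulCommutative F)
    (hpair : ∀ A ∈ D, ∀ B ∈ D, A ≠ B → Nonempty (↥(A ⊔ B) ≃* F))
    {A B : Subgroup G} (hA : A ∈ D) (hB : B ∈ D) (h : B ≤ centralizer (A : Set G)) : A = B := by
  by_contra hne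
  obtain ⟨e⟩ := hpair A hA B hB hne
  have h1 : A ⊔ B ≤ centralizer (A : Set G) := sup_le (self_comm hp (hDp A hA)) h
  have h2 : A ⊔ B ≤ centralizer (B : Set G) :=
    sup_le (by rw [le_centralizer_iff]; exact h) (self_comm hp (hDp B hB))
  have h3 : A ⊔ B ≤ centralizer ((A ⊔ B : Subgroup G) : Set G) := by
    refine sup_le ?_ ?_
    · rw [le_centralizer_iff]; exact h1
    · rw [le_centralizer_iff]; exact h2
  apply hF
  refine ⟨⟨fun x y => ?_⟩⟩
  have h4 : (e.symm x) * (e.symm y) = (e.symm y) * (e.symm x) :=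
    Subtype.ext (mem_centralizer_iff.mp (h3 (e.symm y).2) _ (e.symm x).2)
  apply e.symm.injective
  rw [map_mul, map_mul, h4]

theorem gen_pGroup [Fact p.Prime] (hDp : ∀ A ∈ D, Nat.card ↥A = p)
    (hDinv : ∀ A ∈ D, ∀ g : G, A.map (MulAut.conj g).toMonoidHom ∈ D)
    (hDgen : sSup D = ⊤) {F : Type*} [Group F]
    (hpair : ∀ A ∈ D, ∀ B ∈ D, A ≠ B → Nonempty (↥(A ⊔ B) ≃* F)) (hF : IsPGroup p F) : IsPGroup p G := by
  have h1 := Cfsg.Agent.Involutions.BaerSuzuki.baer_suzuki_set (G := G) (p := p)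
    (K := {x : G | ∃ A ∈ D, x ∈ A}) (by
      rintro g x ⟨A, hA, hx⟩
      exact ⟨_, hDinv A hA g, ⟨x, hx, rfl⟩⟩) (by
      rintro x ⟨A, hA, hx⟩ y ⟨B, hB, hy⟩
      have h2 : closure {x, y} ≤ A ⊔ B := by
        rw [closure_le]
        rintro z (rfl | rfl)
        · exact le_sup_left (α := Subgroup G) hx
        · exact le_sup_right (α := Subgroup G) hy
      refine IsPGroup.to_le ?_ h2
      by_cases hAB : A = B
      · rw [← hAB, sup_idem]
        exact IsPGroup.of_card (n := 1) (by rw [hDp A hA, pow_one])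
      · obtain ⟨e⟩ := hpair A hA B hB hAB
        exact hF.of_equiv e.symm)
  have h2 : closure {x : G | ∃ A ∈ D, x ∈ A} = ⊤ := by
    rw [eq_top_iff, ← hDgen]
    refine sSup_le fun A hA x hx => subset_closure ⟨A, hA, hx⟩
  rw [h2] at h1
  exact h1.of_equiv topEquiv

theorem map_conj_eq_iff {A : Subgroup G} {g : G} :
    A.map (MulAut.conj g).toMonoidHom = A ↔ g ∈ normalizer (A : Set G) := by
  rw [mem_normalizer_iff]
  constructor
  · intro h x
    constructor
    · intro hx
      rw [← h]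
      exact ⟨x, hx, rfl⟩
    · intro hx
      rw [← h] at hx
      obtain ⟨y, hy, hyx⟩ := hx
      have : y = x := (MulAut.conj g).injective hyx
      rw [← this]
      exact hy
  · intro h
    ext x
    constructor
    · rintro ⟨y, hy, rfl⟩
      exact (h y).mp hy
    · intro hx
      refine ⟨g⁻¹ * x * g, (h _).mpr ?_, ?_⟩
      · have e1 : g * (g⁻¹ * x * g) * g⁻¹ = x := by group
        rw [e1]; exact hx
      · show g * (g⁻¹ * x * g) * g⁻¹ = x
        group

theorem notP [Fact p.Prime] (hG : ¬ IsMulCommutative G) (hDp : ∀ A ∈ D, Nat.card ↥A = p)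
    (hDinv : ∀ A ∈ D, ∀ g : G, A.map (MulAut.conj g).toMonoidHom ∈ D)
    (hDgen : sSup D = ⊤) {F : Type*} [Group F] (hF : ¬ IsMulCommutative F)
    (hpair : ∀ A ∈ D, ∀ B ∈ D, A ≠ B → Nonempty (↥(A ⊔ B) ≃* F)) : ¬ IsPGroup p F := by
  intro hpF
  have hp : p.Prime := Fact.out
  have hpG : IsPGroup p G := gen_pGroup hDp hDinv hDgen hpair hpF
  have hpS : ∀ S : Subgroup G, IsPGroup p S := fun S => hpG.to_subgroup S
  obtain ⟨A, hA⟩ : D.Nonempty := by
    rw [Set.nonempty_iff_ne_empty]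
    rintro rfl
    apply hG
    rw [sSup_empty] at hDgen
    refine ⟨⟨fun x y => ?_⟩⟩
    have hx : x ∈ (⊥ : Subgroup G) := by rw [hDgen]; trivial
    have hy : y ∈ (⊥ : Subgroup G) := by rw [hDgen]; trivial
    rw [mem_bot] at hx hy
    rw [hx, hy]
  have hAc := self_comm hp (hDp A hA)
  by_cases hN : normalizer (A : Set G) = ⊤
  · have h1 : (⊤ : Subgroup G) ≤ centralizer (A : Set G) :=
      le_centralizer_of_card (hpS ⊤) (hDp A hA) le_top hN.ge
    have h2 : ∀ B ∈ D, B ≤ A := fun B hB =>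
      (nocomm hp hDp hF hpair hA hB (le_top.trans h1)).ge
    have h3 : A = ⊤ := by rw [eq_top_iff, ← hDgen]; exact sSup_le h2
    apply hG
    refine ⟨⟨fun x y => ?_⟩⟩
    have hx : x ∈ A := by rw [h3]; trivial
    have hy : y ∈ A := by rw [h3]; trivial
    exact mem_centralizer_iff.mp (hAc hy) x hx
  · haveI : Group.IsNilpotent G := hpG.isNilpotent
    have h1 := Group.normalizerCondition_of_isNilpotent (G := G) (normalizer (A : Set G)) (lt_top_iff_ne_top.mpr hN)
    obtain ⟨g, hg, hgn⟩ := Set.exists_of_ssubset h1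
    set B := A.map (MulAut.conj g).toMonoidHom with hB
    have hBD : B ∈ D := hDinv A hA g
    have hAN : A ≤ normalizer (A : Set G) := le_normalizer
    have hBN : B ≤ normalizer (A : Set G) := by
      rintro _ ⟨x, hx, rfl⟩
      exact (mem_normalizer_iff.mp hg x).mp (hAN hx)
    have h2 : A ⊔ B ≤ centralizer (A : Set G) :=
      le_centralizer_of_card (hpS _) (hDp A hA) le_sup_left (sup_le hAN hBN)
    have h3 := nocomm hp hDp hF hpair hA hBD (le_sup_right.trans h2)
    exact hgn (map_conj_eq_iff.mp h3.symm)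

theorem sylow_facts [Fact p.Prime] (hDp : ∀ A ∈ D, Nat.card ↥A = p)
    (hDinv : ∀ A ∈ D, ∀ g : G, A.map (MulAut.conj g).toMonoidHom ∈ D)
    {F : Type*} [Group F] (hF : ¬ IsPGroup p F)
    (hpair : ∀ A ∈ D, ∀ B ∈ D, A ≠ B → Nonempty (↥(A ⊔ B) ≃* F))
    {A : Subgroup G} (hA : A ∈ D) {P : Subgroup G} (hP : IsPGroup p P) (hAP : A ≤ P) :
    (∀ B ∈ D, B ≤ P → A = B) ∧ P ≤ centralizer (A : Set G) := by
  have h1 : ∀ B ∈ D, B ≤ P → A = B := by
    intro B hB hBP
    by_contra hne
    obtain ⟨e⟩ := hpair A hA B hB hne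
    exact hF ((hP.to_le (sup_le hAP hBP)).of_equiv e)
  refine ⟨h1, le_centralizer_of_card hP (hDp A hA) hAP ?_⟩
  intro g hg
  rw [← map_conj_eq_iff]
  refine (h1 _ (hDinv A hA g) ?_).symm
  rintro _ ⟨x, hx, rfl⟩
  exact mul_mem (mul_mem hg (hAP hx)) (inv_mem hg)

theorem map_le_pCore [Fact p.Prime] (hsol : Group.IsSolvable G) (hDp : ∀ A ∈ D, Nat.card ↥A = p)
    (hDinv : ∀ A ∈ D, ∀ g : G, A.map (MulAut.conj g).toMonoidHom ∈ D)
    {F : Type*} [Group F] (hF : ¬ IsPGroup p F)
    (hpair : ∀ A ∈ D, ∀ B ∈ D, A ≠ B → Nonempty (↥(A ⊔ B) ≃* F))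
    {A : Subgroup G} (hA : A ∈ D) :
    A.map (QuotientGroup.mk' (Cfsg.pPrimeCore p G)) ≤ Cfsg.pCore p (G ⧸ Cfsg.pPrimeCore p G) := by
  obtain ⟨P, hAP⟩ := (IsPGroup.of_card (p := p) (n := 1) (by rw [hDp A hA, pow_one]) :
    IsPGroup p A).exists_le_sylow
  obtain ⟨-, h2⟩ := sylow_facts hDp hDinv hF hpair hA P.2 hAP
  set π := QuotientGroup.mk' (Cfsg.pPrimeCore p G) with hπ
  have hsurj : Function.Surjective π := QuotientGroup.mk'_surjective _
  haveI : Group.IsSolvable (G ⧸ Cfsg.pPrimeCore p G) := Group.isSolvable_of_surjective hsurj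
  have h3 := Cfsg.Agent.S0017.result (G := G ⧸ Cfsg.pPrimeCore p G) p
    (Cfsg.Agent.Lib.Cores.pPrimeCore_quotient_pPrimeCore p)
  refine le_trans ?_ h3
  rw [le_centralizer_iff]
  have h4 := Cfsg.Agent.Lib.Cores.pCore_le_sylow (P.mapSurjective hsurj)
  rw [Sylow.coe_mapSurjective] at h4
  refine h4.trans ?_
  rw [← le_centralizer_iff]
  rintro _ ⟨a, ha, rfl⟩
  rw [mem_centralizer_iff]
  rintro _ ⟨x, hx, rfl⟩
  rw [← map_mul, ← map_mul, mem_centralizer_iff.mp (h2 hx) a ha]

theorem conj_by_core [Fact p.Prime] (hsol : Group.IsSolvable G) (hDp : ∀ A ∈ D, Nat.card ↥A = p)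
    (hDinv : ∀ A ∈ D, ∀ g : G, A.map (MulAut.conj g).toMonoidHom ∈ D)
    {F : Type*} [Group F] (hF : ¬ IsPGroup p F)
    (hpair : ∀ A ∈ D, ∀ B ∈ D, A ≠ B → Nonempty (↥(A ⊔ B) ≃* F))
    {A : Subgroup G} (hA : A ∈ D) {B : Subgroup G} (hB : B ∈ D) :
    ∃ k ∈ Cfsg.pPrimeCore p G, B = A.map (MulAut.conj k).toMonoidHom := by
  have hp : p.Prime := Fact.out
  obtain ⟨P, hAP⟩ := (IsPGroup.of_card (p := p) (n := 1) (by rw [hDp A hA, pow_one]) :
    IsPGroup p A).exists_le_sylow
  obtain ⟨h1, h2⟩ := sylow_facts hDp hDinv hF hpair hA P.2 hAP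
  have hpB : IsPGroup p B := IsPGroup.of_card (p := p) (n := 1) (by rw [hDp B hB, pow_one])
  set K := Cfsg.pPrimeCore p G with hK
  set π := QuotientGroup.mk' K with hπ
  have hsurj : Function.Surjective π := QuotientGroup.mk'_surjective _
  have h3 := map_le_pCore hsol hDp hDinv hF hpair hB
  have h4 := Cfsg.Agent.Lib.Cores.pCore_le_sylow (P.mapSurjective hsurj)
  rw [Sylow.coe_mapSurjective] at h4
  have h5 : B ≤ (P : Subgroup G) ⊔ K := by
    have h6 : B ≤ ((P : Subgroup G).map π).comap π := by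
      rw [← Subgroup.map_le_iff_le_comap]
      exact h3.trans h4
    rw [Subgroup.comap_map_eq, QuotientGroup.ker_mk'] at h6
    exact h6
  obtain ⟨b, hb, hb1⟩ : ∃ b ∈ B, b ≠ 1 := by
    by_contra h
    push Not at h
    have : B = ⊥ := (eq_bot_iff_forall _).mpr h
    have h7 := hDp B hB
    rw [this, card_bot] at h7
    exact hp.one_lt.ne h7
  have hBb : B = zpowers b := exists_gen hp (hDp B hB) hb hb1
  obtain ⟨n, hn, hnb⟩ := Cfsg.Agent.S1250.exists_mem_normal_conj_mem P K b (by rw [← hBb]; exact hpB) (h5 hb)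
  have h6 : B.map (MulAut.conj n).toMonoidHom ≤ (P : Subgroup G) := by
    rintro _ ⟨x, hx, rfl⟩
    rw [hBb] at hx
    obtain ⟨m, rfl⟩ := hx
    show n * b ^ m * n⁻¹ ∈ (P : Subgroup G)
    rw [← conj_zpow]
    exact zpow_mem hnb m
  have h7 := h1 _ (hDinv B hB n) h6
  refine ⟨n⁻¹, inv_mem hn, ?_⟩
  rw [h7, Subgroup.map_map]
  ext x
  simp [Subgroup.mem_map, mul_assoc]

theorem sup_core [Fact p.Prime] (hsol : Group.IsSolvable G) (hDp : ∀ A ∈ D, Nat.card ↥A = p)
    (hDinv : ∀ A ∈ D, ∀ g : G, A.map (MulAut.conj g).toMonoidHom ∈ D)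
    (hDgen : sSup D = ⊤) {F : Type*} [Group F] (hF : ¬ IsPGroup p F)
    (hpair : ∀ A ∈ D, ∀ B ∈ D, A ≠ B → Nonempty (↥(A ⊔ B) ≃* F))
    {A : Subgroup G} (hA : A ∈ D) :
    Cfsg.pPrimeCore p G ⊔ A = ⊤ ∧ ⁅Cfsg.pPrimeCore p G, A⁆ = Cfsg.pPrimeCore p G := by
  have hp : p.Prime := Fact.out
  set K := Cfsg.pPrimeCore p G with hK
  have hle : ⁅K, A⁆ ≤ K := commutator_le_left _ _
  have h1 : ⁅K, A⁆ ⊔ A = ⊤ := by
    rw [eq_top_iff, ← hDgen]
    refine sSup_le fun B hB => ?_
    obtain ⟨k, hk, rfl⟩ := conj_by_core hsol hDp hDinv hF hpair hA hB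
    rintro _ ⟨a, ha, rfl⟩
    have e1 : (MulAut.conj k).toMonoidHom a = ⁅k, a⁆ * a := by
      show k * a * k⁻¹ = ⁅k, a⁆ * a
      rw [commutatorElement_def]; group
    rw [e1]
    exact mul_mem (le_sup_left (α := Subgroup G) (commutator_mem_commutator hk ha))
      (le_sup_right (α := Subgroup G) ha)
  have h2 : K ⊔ A = ⊤ := by
    rw [eq_top_iff, ← h1]
    exact sup_le_sup_right hle A
  refine ⟨h2, le_antisymm hle ?_⟩
  have hn : (⁅K, A⁆ : Subgroup G).Normal := by
    rw [← normalizer_eq_top_iff, eq_top_iff, ← h2]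
    exact sup_le (normalizer_commutator_ge_left K A) (normalizer_commutator_ge_right K A)
  have hdisj : K ⊓ A = ⊥ := by
    apply (Subgroup.disjoint_of_coprime_natCard _).eq_bot
    rw [hDp A hA]
    exact Cfsg.Agent.Lib.Cores.pPrimeCore_coprime p
  intro k hk
  have h3 : k ∈ ⁅K, A⁆ ⊔ A := by rw [h1]; trivial
  obtain ⟨x, hx, a, ha, rfl⟩ := Subgroup.mem_sup_of_normal_left.mp h3
  have h4 : a ∈ K ⊓ A := mem_inf.mpr ⟨by
    have := mul_mem (inv_mem (hle hx)) hk
    rwa [inv_mul_cancel_left] at this, ha⟩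
  rw [hdisj, mem_bot] at h4
  rw [h4, mul_one]
  exact hx

/-- `K` is an `r`-group. -/
theorem core_pGroup [Fact p.Prime] (hDp : ∀ A ∈ D, Nat.card ↥A = p)
    (hDinv : ∀ A ∈ D, ∀ g : G, A.map (MulAut.conj g).toMonoidHom ∈ D)
    {F : Type*} [Group F] [Finite F] (hF : ¬ IsPGroup p F)
    (hpair : ∀ A ∈ D, ∀ B ∈ D, A ≠ B → Nonempty (↥(A ⊔ B) ≃* F))
    {A : Subgroup G} (hA : A ∈ D) {K : Subgroup G} [K.Normal] (hKc : (Nat.card K).Coprime p)
    (hKA : ⁅K, A⁆ = K) (hK1 : K ≠ ⊥) :
    ∃ r : ℕ, r.Prime ∧ r ≠ p ∧ IsPGroup r K := by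
  have hp : p.Prime := Fact.out
  have hpK : ¬ p ∣ Nat.card K := fun h => hp.one_lt.ne'
    (Nat.eq_one_of_dvd_coprimes hKc h dvd_rfl)
  have hAp : IsPGroup p A := IsPGroup.of_card (p := p) (n := 1) (by rw [hDp A hA, pow_one])
  have hAK : A ≤ normalizer (K : Set G) := by rw [normalizer_eq_top]; exact le_top
  have hdisj : K ⊓ A = ⊥ := by
    apply (Subgroup.disjoint_of_coprime_natCard _).eq_bot
    rw [hDp A hA]
    exact hKc
  -- two different primes
  have hone : ∀ s : ℕ, s.Prime → ∀ S : Sylow s K,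
      A ≤ normalizer (((S : Subgroup K).map K.subtype : Subgroup G) : Set G) →
      ¬ ((S : Subgroup K).map K.subtype) ≤ centralizer (A : Set G) →
      ∀ t : ℕ, t.Prime → t ∣ Nat.card F → t = s ∨ t = p := by
    intro s hs S hAS hSc t ht htF
    haveI : Fact s.Prime := ⟨hs⟩
    obtain ⟨x, hx, hxc⟩ := Set.not_subset.mp hSc
    have hxK : x ∈ K := map_subtype_le _ hx
    have hne : A ≠ A.map (MulAut.conj x).toMonoidHom := by
      intro h
      apply hxc
      have hxn : x ∈ normalizer (A : Set G) := map_conj_eq_iff.mp h.symm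
      show x ∈ centralizer (A : Set G)
      rw [mem_centralizer_iff]
      intro a ha
      have h1 : ⁅x, a⁆ ∈ K ⊓ A := by
        refine mem_inf.mpr ⟨?_, ?_⟩
        · rw [← hKA]; exact commutator_mem_commutator hxK ha
        · rw [commutatorElement_def]
          exact mul_mem ((mem_normalizer_iff.mp hxn a).mp ha) (inv_mem ha)
      rw [hdisj, mem_bot, commutatorElement_eq_one_iff_mul_comm] at h1
      exact h1.symm
    obtain ⟨e⟩ := hpair A hA _ (hDinv A hA x) hne
    have h2 : A ⊔ A.map (MulAut.conj x).toMonoidHom ≤ A ⊔ (S : Subgroup K).map K.subtype := by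
      refine sup_le le_sup_left ?_
      rintro _ ⟨a, ha, rfl⟩
      have hxm : x ∈ A ⊔ (S : Subgroup K).map K.subtype := le_sup_right (α := Subgroup G) hx
      exact mul_mem (mul_mem hxm (le_sup_left (α := Subgroup G) ha)) (inv_mem hxm)
    have h3 : Nat.card F ∣ Nat.card A * Nat.card ((S : Subgroup K).map K.subtype) := by
      rw [← Nat.card_congr e.toEquiv]
      exact (card_dvd_of_le h2).trans (Cfsg.Agent.OddOrderLocal.DecompBasic.card_sup_dvd hAS)
    obtain ⟨m, hm⟩ := IsPGroup.iff_card.mp S.2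
    have h4 : Nat.card ((S : Subgroup K).map K.subtype) = s ^ m := by
      rw [card_map_of_injective K.subtype_injective]; exact hm
    rw [h4, hDp A hA] at h3
    rcases (Nat.Prime.dvd_mul ht).mp (htF.trans h3) with h5 | h5
    · exact Or.inr ((Nat.prime_dvd_prime_iff_eq ht hp).mp h5)
    · exact Or.inl ((Nat.prime_dvd_prime_iff_eq ht hs).mp (ht.dvd_of_dvd_pow h5))
  set C : Subgroup K := (centralizer (A : Set G)).subgroupOf K with hC
  -- the invariant Sylow subgroups
  have hinv : ∀ s : ℕ, s.Prime → ∃ S : Sylow s K,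
      A ≤ normalizer (((S : Subgroup K).map K.subtype : Subgroup G) : Set G) := by
    intro s hs
    haveI : Fact s.Prime := ⟨hs⟩
    exact Cfsg.Agent.Lib.CoprimeHyperplane.exists_invariant_sylow hAp hAK hpK s
  have hle : ∀ s : ℕ, ∀ S : Sylow s K, ((S : Subgroup K).map K.subtype) ≤ centralizer (A : Set G) →
      (S : Subgroup K) ≤ C := by
    intro s S h x hx
    exact mem_subgroupOf.mpr (h ⟨x, hx, rfl⟩)
  have hindex : ∀ s : ℕ, s.Prime → ∀ S : Sylow s K, (S : Subgroup K) ≤ C → ¬ s ∣ C.index := by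
    intro s hs S h hd
    haveI : Fact s.Prime := ⟨hs⟩
    exact S.not_dvd_index (hd.trans (index_dvd_of_le h))
  by_cases hall : ∀ s : ℕ, s.Prime → ∀ S : Sylow s K,
      A ≤ normalizer (((S : Subgroup K).map K.subtype : Subgroup G) : Set G) →
      ((S : Subgroup K).map K.subtype) ≤ centralizer (A : Set G)
  · exfalso
    have h1 : C.index = 1 := by
      by_contra hne
      obtain ⟨s, hs, hsd⟩ := Nat.exists_prime_and_dvd hne
      obtain ⟨S, hS⟩ := hinv s hs
      exact hindex s hs S (hle s S (hall s hs S hS)) hsd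
    rw [index_eq_one] at h1
    apply hK1
    rw [← hKA, commutator_eq_bot_iff_le_centralizer]
    exact subgroupOf_eq_top.mp h1
  · push Not at hall
    obtain ⟨s, hs, S, hS, hSc⟩ := hall
    haveI : Fact s.Prime := ⟨hs⟩
    have hother : ∀ t : ℕ, t.Prime → t ≠ s → ∀ T : Sylow t K,
        A ≤ normalizer (((T : Subgroup K).map K.subtype : Subgroup G) : Set G) →
        ((T : Subgroup K).map K.subtype) ≤ centralizer (A : Set G) := by
      intro t ht hts T hT
      by_contra hTc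
      apply hF
      rw [IsPGroup.iff_card]
      have h1 : ∀ u : ℕ, u.Prime → u ∣ Nat.card F → u = p := by
        intro u hu huF
        rcases hone s hs S hS hSc u hu huF with h2 | h2
        · rcases hone t ht T hT hTc u hu huF with h3 | h3
          · exact absurd (h3.symm.trans h2) hts
          · exact h3
        · exact h2
      exact ⟨_, Nat.eq_prime_pow_of_unique_prime_dvd Nat.card_pos.ne' (fun {d} hd hdF => h1 d hd hdF)⟩
    have hcopi : (S : Subgroup K).index.Coprime C.index := by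
      rw [Nat.coprime_iff_gcd_eq_one]
      by_contra hne
      obtain ⟨t, ht, htd⟩ := Nat.exists_prime_and_dvd hne
      have h1 : t ∣ (S : Subgroup K).index := htd.trans (Nat.gcd_dvd_left _ _)
      have h2 : t ∣ C.index := htd.trans (Nat.gcd_dvd_right _ _)
      by_cases hts : t = s
      · subst hts
        exact S.not_dvd_index h1
      · obtain ⟨T, hT⟩ := hinv t ht
        exact hindex t ht T (hle t T (hother t ht hts T hT)) h2
    have hKS : K ≤ (S : Subgroup K).map K.subtype := by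
      conv_lhs => rw [← hKA]
      rw [commutator_le]
      intro k hk a ha
      obtain ⟨x, hx, c, hc, hxc⟩ := Cfsg.Agent.S0007.exists_mul_eq (S : Subgroup K) C hcopi ⟨k, hk⟩
      have hk' : k = x * c := congrArg Subtype.val hxc
      have hc' : (c : G) ∈ centralizer (A : Set G) := mem_subgroupOf.mp hc
      have hca : a * (c : G) = c * a := mem_centralizer_iff.mp hc' a ha
      have hxS : (x : G) ∈ (S : Subgroup K).map K.subtype := ⟨x, hx, rfl⟩
      have e1 : ⁅k, a⁆ = (x : G) * (a * (x : G)⁻¹ * a⁻¹) := by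
        rw [hk', commutatorElement_def]
        have : (x : G) * c * a * ((x : G) * c)⁻¹ * a⁻¹ = x * (c * a) * (c : G)⁻¹ * (x : G)⁻¹ * a⁻¹ := by group
        rw [this, ← hca]; group
      rw [e1]
      exact mul_mem hxS ((mem_normalizer_iff.mp (hS ha) _).mp (inv_mem hxS))
    have hKs : IsPGroup s K := (S.2.map K.subtype).to_le hKS
    refine ⟨s, hs, ?_, hKs⟩
    rintro rfl
    obtain ⟨m, hm⟩ := IsPGroup.iff_card.mp hKs
    apply hK1
    rw [← card_eq_one, hm]
    rcases Nat.eq_zero_or_pos m with h0 | h0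
    · rw [h0, pow_zero]
    · exact absurd (by rw [hm]; exact dvd_pow_self _ h0.ne') hpK

theorem main (hodd : Odd (Nat.card G)) (hG : ¬ IsMulCommutative G) (p : ℕ) (hp : p.Prime) (hp2 : p ≠ 2)
    (D : Set (Subgroup G)) (hDp : ∀ A ∈ D, Nat.card ↥A = p)
    (hDinv : ∀ A ∈ D, ∀ g : G, A.map (MulAut.conj g).toMonoidHom ∈ D)
    (hDgen : sSup D = ⊤) {F : Type*} [Group F] [Finite F] (hF : ¬ IsMulCommutative F)
    (hpair : ∀ A ∈ D, ∀ B ∈ D, A ≠ B → Nonempty (↥(A ⊔ B) ≃* F)) :
    ∃ H : Subgroup (G ⧸ Subgroup.center G), Cfsg.IsFrobeniusComplement H := by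
  haveI : Fact p.Prime := ⟨hp⟩
  have hsol : Group.IsSolvable G := Cfsg.Agent.S0205.result hodd
  have hnp : ¬ IsPGroup p F := notP hG hDp hDinv hDgen hF hpair
  obtain ⟨A, hA⟩ : D.Nonempty := by
    rw [Set.nonempty_iff_ne_empty]
    rintro rfl
    apply hG
    rw [sSup_empty] at hDgen
    refine ⟨⟨fun x y => ?_⟩⟩
    have hx : x ∈ (⊥ : Subgroup G) := by rw [hDgen]; trivial
    have hy : y ∈ (⊥ : Subgroup G) := by rw [hDgen]; trivial
    rw [mem_bot] at hx hy
    rw [hx, hy]
  obtain ⟨htop, hKA⟩ := sup_core hsol hDp hDinv hDgen hnp hpair hA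
  have hKc := Cfsg.Agent.Lib.Cores.pPrimeCore_coprime (G := G) p
  have hKn : (Cfsg.pPrimeCore p G).Normal := Cfsg.Agent.Lib.Cores.pPrimeCore_normal p
  set K := Cfsg.pPrimeCore p G with hK
  have hK1 : K ≠ ⊥ := by
    intro h
    rw [h, bot_sup_eq] at htop
    apply hG
    refine ⟨⟨fun x y => ?_⟩⟩
    have hx : x ∈ A := by rw [htop]; trivial
    have hy : y ∈ A := by rw [htop]; trivial
    exact mem_centralizer_iff.mp (self_comm hp (hDp A hA) hy) x hx
  obtain ⟨r, hr, hrp, hKr⟩ := core_pGroup hDp hDinv hnp hpair hA hKc hKA hK1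
  haveI : Fact r.Prime := ⟨hr⟩
  have hdisj : K ⊓ A = ⊥ := by
    apply (Subgroup.disjoint_of_coprime_natCard _).eq_bot
    rw [hDp A hA]
    exact hKc
  have hC := key hp hp2 hrp hKr (hDp A hA) htop hKA (F := F) (by
    intro x hx hxc
    refine hpair A hA _ (hDinv A hA x) ?_
    intro h
    apply hxc
    have hxn : x ∈ normalizer (A : Set G) := map_conj_eq_iff.mp h.symm
    rw [mem_centralizer_iff]
    intro a ha
    have h1 : ⁅x, a⁆ ∈ K ⊓ A := by
      refine mem_inf.mpr ⟨?_, ?_⟩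
      · rw [← hKA]; exact commutator_mem_commutator hx ha
      · rw [commutatorElement_def]
        exact mul_mem ((mem_normalizer_iff.mp hxn a).mp ha) (inv_mem ha)
    rw [hdisj, mem_bot, commutatorElement_eq_one_iff_mul_comm] at h1
    exact h1.symm)
  exact ⟨_, frob hp hrp hKr hK1 (hDp A hA) htop hKA hC⟩

end Main

end Cfsg.Agent.H304.PairFrob
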