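import Cfsg.Agent.H304.OutCop
import Cfsg.Agent.H304.Psl3
import Cfsg.Agent.H567.OddOverRows
import Cfsg.Agent.S0249
import Cfsg.Agent.SuzukiRankOne.Translation

/-!
# The small linear groups `PSL_4(4)`, `PSL_6(2)`, `PSL_7(2)` (helper304, TEAM ELUSIVE)

Every maximal subgroup misses an `Aut`-class of elements of prime order.
-/

set_option autoImplicit false
set_option linter.style.haveILetI false

namespace Cfsg.Agent.H304.SmallL

open Matrix Cfsg Cfsg.Geo Cfsg.Agent.H304.PslT Cfsg.Agent.OrdDiv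
open scoped Pointwise

universe u

/-- a group which is, up to outer automorphisms, a simple group `S` -/
structure Soc {G : Type*} [Group G] (M : Subgroup G) (S : Type u) [Group S] : Prop where
  fin : Finite S
  simple : IsSimpleGroup S
  na : ¬ ∀ a b : S, a * b = b * a
  dvd : Nat.card S ∣ Nat.card M
  aut : Nat.card M ∣ Nat.card (MulAut S)

theorem finite_psl {F : Type*} [Field F] [Fintype F] {n : ℕ} : Finite (Matrix.ProjectiveSpecialLinearGroup (Fin n) F) := by
  classical
  exact Quotient.finite _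

theorem exists_soc {F : Type u} [Field F] [Fintype F] {n : ℕ} (hn : 3 ≤ n)
    {M : Subgroup (Matrix.ProjectiveSpecialLinearGroup (Fin n) F)} (hM : IsCoatom M) :
    Cfsg.Agent.H396.Der (Matrix.ProjectiveSpecialLinearGroup (Fin n) F) M ∨
      ∃ (S : Type u) (_ : Group S), Soc M S := by
  classical
  rcases GeoL.der_or_residual hn hM with h | ⟨P, h, -⟩
  · exact Or.inl h
  · haveI := finite_psl (F := F) (n := n)
    refine Or.inr ⟨P ⧸ (scalars (Fin n) F).subgroupOf P, inferInstance, ?_, h.simple, ?_,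
      card_core_dvd (by omega) h, card_dvd_mulAut (by omega) h⟩
    · exact Quotient.finite _
    · exact fun hc => h.nonabelian ⟨⟨hc⟩⟩

/-- no `r`-th power of a prime divides `N` -/
theorem no_pow {l : List (ℕ × ℕ)} {N M r : ℕ} (hv : valid l N = true) (hM : M ∣ N) (hr : 1 ≤ r)
    (hl : ∀ x ∈ l, x.2 < r) : ∀ p : ℕ, p.Prime → ¬ p ^ r ∣ M := by
  intro p hp hd
  obtain ⟨k, hk, hle⟩ := exists_pair hv hp hr (hd.trans hM)
  have := hl _ hk
  simp only at this
  omega

section

variable {G : Type u} [Group G] [Finite G] {M : Subgroup G} {S : Type u} [Group S]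

/-- the prime `r` divides the order of the socle -/
theorem soc_prime (T : OrderTable.{u}) (hS : ∀ (X : Type u) [Group X] [Finite X] [IsSimpleGroup X], IsKnownSimple' X)
    (h : Soc M S) {l : List (ℕ × ℕ)} {N r : ℕ} (hv : valid l N = true) (hN : Nat.card S ∣ N) (hr : r.Prime)
    (h5 : 5 ≤ r) (hl : ∀ x ∈ l, x.2 < r) (hG : r ∣ Nat.card G) (hder : ¬ Cfsg.Agent.H396.Der G M) :
    r ∣ Nat.card S := by
  haveI := h.fin
  haveI := h.simple
  refine OutCop.dvd_of_dvd_aut T (hS S) h.na hr h5 (no_pow hv hN (by omega) hl) ?_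
  refine Dvd.dvd.trans ?_ h.aut
  by_contra hn
  exact hder (Cfsg.Agent.H396.der_of_prime hr hG hn)

theorem soc_good (T : OrderTable.{u}) (hS : ∀ (X : Type u) [Group X] [Finite X] [IsSimpleGroup X], IsKnownSimple' X)
    (h : Soc M S) {l : List (ℕ × ℕ)} {N r : ℕ} (hv : valid l N = true) (hN : Nat.card G = N) (hM : M ≠ ⊤)
    (hr : r.Prime) (h5 : 5 ≤ r) (hl : ∀ x ∈ l, x.2 < r) (hG : r ∣ N) (hder : ¬ Cfsg.Agent.H396.Der G M) :
    ∃ g ∈ (cands l N).filter (fun g => ordN g % r == 0 && !(ordN g == N)), OrdDiv.Real g S ∧ Nat.card S = ordN g := by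
  haveI := h.fin
  haveI := h.simple
  have hd : Nat.card S ∣ N := by
    rw [← hN]
    exact h.dvd.trans (Subgroup.card_subgroup_dvd_card M)
  obtain ⟨g, h1, h2, h3⟩ := exists_good T (hS S) h.na hv hd
  have h4 := soc_prime T hS h hv hd hr h5 hl (by rw [hN]; exact hG) hder
  have h5 : Nat.card S ≠ N := by
    intro h5
    apply hM
    apply Subgroup.eq_top_of_card_eq
    have h6 := h.dvd
    rw [h5, ← hN] at h6
    exact Nat.dvd_antisymm (Subgroup.card_subgroup_dvd_card M) h6
  refine ⟨g, List.mem_filter.2 ⟨h1, ?_⟩, h2, h3⟩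
  rw [h3] at h4 h5
  simp [Nat.mod_eq_zero_of_dvd h4, h5]

end

/-! ### `PSL_7(2)` -/

def l72 : List (ℕ × ℕ) := [(2, 21), (3, 4), (5, 1), (7, 2), (31, 1), (127, 1)]

theorem v72 : valid l72 163849992929280 = true := by decide +kernel

theorem c72 : (cands l72 163849992929280).filter (fun g => ordN g % 127 == 0 && !(ordN g == 163849992929280)) =
    [.psl 2 127] := by decide +kernel

theorem card72 {F : Type*} [Field F] [Fintype F] (hF : Fintype.card F = 2) :
    Nat.card (Matrix.ProjectiveSpecialLinearGroup (Fin 7) F) = 163849992929280 := by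
  have h := Cfsg.Agent.S0243.result (F := F) hF 7 (by norm_num)
  have e1 : ∏ i : Fin 7, (2 ^ 7 - 2 ^ (i : ℕ)) = 163849992929280 := by rfl
  rw [e1] at h
  norm_num at h
  exact h

theorem clMaxA_72 (T : OrderTable.{u})
    (hS : ∀ (X : Type u) [Group X] [Finite X] [IsSimpleGroup X], IsKnownSimple' X)
    {F : Type u} [Field F] [Fintype F] (hF : Fintype.card F = 2) :
    Cfsg.Agent.H278.El.ClMaxA (Matrix.ProjectiveSpecialLinearGroup (Fin 7) F) := by
  intro M hM
  haveI := finite_psl (F := F) (n := 7)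
  by_contra hder
  obtain ⟨S, _, h⟩ := (exists_soc (by norm_num) hM).resolve_left hder
  obtain ⟨g, hg, -, hc⟩ := soc_good T hS h v72 (card72 hF) hM.1 (r := 127) (by norm_num) (by norm_num)
    (by decide) (by norm_num) hder
  rw [c72, List.mem_singleton] at hg
  subst hg
  have hc' : Nat.card S = 1024128 := by rw [hc]; decide +kernel
  have h31 := soc_prime T hS h v72 (r := 31) (by rw [hc']; norm_num) (by norm_num) (by norm_num) (by decide)
    (by rw [card72 hF]; norm_num) hder
  rw [hc'] at h31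
  norm_num at h31

/-! ### `PSL_4(4)` -/

def l44 : List (ℕ × ℕ) := [(2, 12), (3, 4), (5, 2), (7, 1), (17, 1)]

theorem v44 : valid l44 987033600 = true := by decide +kernel

theorem c44 : (cands l44 987033600).filter (fun g => ordN g % 17 == 0 && !(ordN g == 987033600)) =
    [.psl 2 16, .psl 2 17, .psp 2 4, .ominus 4 2] := by decide +kernel

theorem card44 {F : Type*} [Field F] [Fintype F] (hF : Fintype.card F = 4) :
    Nat.card (Matrix.ProjectiveSpecialLinearGroup (Fin 4) F) = 987033600 := by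
  have h := Cfsg.Agent.S0243.result (F := F) hF 4 (by norm_num)
  have e1 : ∏ i : Fin 4, (4 ^ 4 - 4 ^ (i : ℕ)) = 2961100800 := by rfl
  rw [e1] at h
  norm_num at h
  omega

theorem clMaxA_44 (T : OrderTable.{u})
    (hS : ∀ (X : Type u) [Group X] [Finite X] [IsSimpleGroup X], IsKnownSimple' X)
    {F : Type u} [Field F] [Fintype F] (hF : Fintype.card F = 4) :
    Cfsg.Agent.H278.El.ClMaxA (Matrix.ProjectiveSpecialLinearGroup (Fin 4) F) := by
  intro M hM
  haveI := finite_psl (F := F) (n := 4)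
  by_contra hder
  obtain ⟨S, _, h⟩ := (exists_soc (by norm_num) hM).resolve_left hder
  obtain ⟨g, hg, hreal, hc⟩ := soc_good T hS h v44 (card44 hF) hM.1 (r := 17) (by norm_num) (by norm_num)
    (by decide) (by norm_num) hder
  rw [c44] at hg
  simp only [List.mem_cons, List.not_mem_nil, or_false] at hg
  rcases hg with rfl | rfl | rfl | rfl
  · have hc' : Nat.card S = 4080 := by rw [hc]; decide +kernel
    have h7 := soc_prime T hS h (l := [(2, 4), (3, 1), (5, 1), (17, 1)]) (N := 4080) (by decide +kernel) (r := 7)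
      (by rw [hc']) (by norm_num) (by norm_num) (by decide) (by rw [card44 hF]; norm_num) hder
    rw [hc'] at h7
    norm_num at h7
  · have hc' : Nat.card S = 2448 := by rw [hc]; decide +kernel
    have h7 := soc_prime T hS h (l := [(2, 4), (3, 2), (17, 1)]) (N := 2448) (by decide +kernel) (r := 7)
      (by rw [hc']) (by norm_num) (by norm_num) (by decide) (by rw [card44 hF]; norm_num) hder
    rw [hc'] at h7
    norm_num at h7
  · have hc' : Nat.card S = 979200 := by rw [hc]; decide +kernel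
    obtain ⟨K, _, _, hK, ⟨e⟩⟩ := hreal
    haveI : Fact (Nat.Prime 2) := ⟨Nat.prime_two⟩
    have h1 := Cfsg.Agent.S0814.result (F := K) 2 2 (by norm_num) (by rw [hK]; norm_num) 2 (by norm_num) (by norm_num)
    have h2 : Nat.card (MulAut S) = 3916800 := by
      rw [Nat.card_congr (MulAut.congr e).toEquiv, h1, ← Nat.card_congr e.toEquiv, hc']
      norm_num
    have h3 : 7 ∣ Nat.card M := by
      by_contra hn
      exact hder (Cfsg.Agent.H396.der_of_prime (by norm_num) (by rw [card44 hF]; norm_num) hn)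
    have h4 := h3.trans h.aut
    rw [h2] at h4
    norm_num at h4
  · have hc' : Nat.card S = 197406720 := by rw [hc]; decide +kernel
    haveI := Cfsg.Agent.S0249.result (F := F) 4 (by norm_num)
    have h1 : M.index ∣ 5 := by
      have h2 := M.card_mul_index
      rw [card44 hF] at h2
      obtain ⟨k, hk⟩ := h.dvd
      rw [hk, hc'] at h2
      refine ⟨k, ?_⟩
      have h3 : 197406720 * (M.index * k) = 197406720 * 5 := by
        rw [← mul_assoc, mul_right_comm, h2]
      exact (Nat.eq_of_mul_eq_mul_left (by norm_num) h3).symm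
    have h2 := Cfsg.Agent.Involutions.IndexFive.card_dvd_factorial_index M hM.1
    have h3 : Nat.card (Matrix.ProjectiveSpecialLinearGroup (Fin 4) F) ∣ Nat.factorial 5 :=
      h2.trans (Nat.factorial_dvd_factorial (Nat.le_of_dvd (by norm_num) h1))
    rw [card44 hF] at h3
    have := Nat.le_of_dvd (by decide) h3
    revert this
    decide

/-! ### `PSL_6(2)` -/

/-- an element of order seven in `F_2[B]`, `B` of order nine -/
def E : Matrix (Fin 6) (Fin 6) (ZMod 2) :=
  !![0,1,1,0,1,1; 0,0,1,1,0,1; 0,0,0,1,1,0; 0,1,1,0,0,0; 1,0,1,1,0,0; 1,1,0,1,1,0]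

/-- an element of order seven with fixed space of dimension three -/
def D : Matrix (Fin 6) (Fin 6) (ZMod 2) :=
  !![0,0,1,0,0,0; 1,0,1,0,0,0; 0,1,0,0,0,0; 0,0,0,1,0,0; 0,0,0,0,1,0; 0,0,0,0,0,1]

theorem E7 : E * E * E * E * E * E * E = 1 := by decide +kernel
theorem D7 : D * D * D * D * D * D * D = 1 := by decide +kernel
theorem E_ne : E ≠ 1 := by decide +kernel
theorem D_ne : D ≠ 1 := by decide +kernel
theorem EB : E * L62.B = L62.B * E := by decide +kernel

variable {F : Type*} [Field F] [Fintype F]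

/-- lifting matrices over `ZMod 2` to `SL_6(F)`, `|F| = 2` -/
theorem exists_lift (hF : Fintype.card F = 2) : ∃ φ : ZMod 2 →+* F, Function.Injective φ ∧
    ∀ A : Matrix (Fin 6) (Fin 6) (ZMod 2), ∀ k : ℕ, A ^ (k + 1) = 1 → ∃ g : Matrix.SpecialLinearGroup (Fin 6) F,
      (g : Matrix (Fin 6) (Fin 6) F) = φ.mapMatrix A := by
  haveI := L62.charP_two hF
  let φ : ZMod 2 →+* F := ZMod.castHom (dvd_refl 2) F
  refine ⟨φ, φ.injective, fun A k hA => ?_⟩
  have h9 : (φ.mapMatrix A) ^ (k + 1) = 1 := by rw [← map_pow, hA, map_one]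
  have hdet : (φ.mapMatrix A).det = 1 := by
    have h1 : (φ.mapMatrix A).det ^ (k + 1) = 1 := by rw [← Matrix.det_pow, h9, Matrix.det_one]
    have h2 : (φ.mapMatrix A).det ≠ 0 := by
      intro h
      rw [h, zero_pow (by omega)] at h1
      exact zero_ne_one h1
    have h4 := FiniteField.pow_card_sub_one_eq_one (φ.mapMatrix A).det h2
    rwa [hF, show 2 - 1 = 1 by norm_num, pow_one] at h4
  exact ⟨⟨φ.mapMatrix A, hdet⟩, rfl⟩

theorem exists_elts (hF : Fintype.card F = 2) : ∃ b d e : Matrix.SpecialLinearGroup (Fin 6) F,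
    b ^ 9 = 1 ∧ b ^ 3 ≠ 1 ∧ d ^ 7 = 1 ∧ d ≠ 1 ∧ e ^ 7 = 1 ∧ e ≠ 1 ∧ e * b = b * e ∧
      ∀ v : Fin 6 → F, v 0 = 0 → v 1 = 0 → v 2 = 0 → (d : Matrix (Fin 6) (Fin 6) F) *ᵥ v = v := by
  obtain ⟨φ, hφ, H⟩ := exists_lift hF
  have hinj : Function.Injective (φ.mapMatrix (m := Fin 6)) := Matrix.map_injective hφ
  have hB9 : L62.B ^ (8 + 1) = 1 := by
    rw [show 8 + 1 = 3 * 3 by norm_num, pow_mul, pow_succ L62.B 2, pow_two, L62.B3, pow_succ, pow_two, L62.C3]
  have hE7 : E ^ (6 + 1) = 1 := by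
    rw [← E7]; simp only [pow_succ, pow_zero, one_mul]
  have hD7 : D ^ (6 + 1) = 1 := by
    rw [← D7]; simp only [pow_succ, pow_zero, one_mul]
  obtain ⟨b, hb⟩ := H L62.B 8 hB9
  obtain ⟨d, hd⟩ := H D 6 hD7
  obtain ⟨e, he⟩ := H E 6 hE7
  have hone : ((1 : Matrix.SpecialLinearGroup (Fin 6) F) : Matrix (Fin 6) (Fin 6) F) = φ.mapMatrix 1 := by
    rw [map_one]
    exact Matrix.SpecialLinearGroup.coe_one (n := Fin 6) (R := F)
  have hpow : ∀ (g : Matrix.SpecialLinearGroup (Fin 6) F) (A : Matrix (Fin 6) (Fin 6) (ZMod 2)) (k : ℕ),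
      (g : Matrix (Fin 6) (Fin 6) F) = φ.mapMatrix A →
      ((g ^ k : Matrix.SpecialLinearGroup (Fin 6) F) : Matrix (Fin 6) (Fin 6) F) = φ.mapMatrix (A ^ k) := by
    intro g A k h
    rw [map_pow, ← h]
    exact Matrix.SpecialLinearGroup.coe_pow g k
  refine ⟨b, d, e, ?_, ?_, ?_, ?_, ?_, ?_, ?_, ?_⟩
  · apply Subtype.ext
    rw [hpow b _ 9 hb, hone]
    exact congrArg _ hB9
  · intro h
    have h1 := hpow b _ 3 hb
    rw [h, hone] at h1
    have h2 := hinj h1
    rw [pow_succ, pow_two, L62.B3] at h2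
    exact L62.C_ne h2.symm
  · apply Subtype.ext
    rw [hpow d _ 7 hd, hone]
    exact congrArg _ hD7
  · intro h
    rw [h, hone] at hd
    exact D_ne (hinj hd).symm
  · apply Subtype.ext
    rw [hpow e _ 7 he, hone]
    exact congrArg _ hE7
  · intro h
    rw [h, hone] at he
    exact E_ne (hinj he).symm
  · apply Subtype.ext
    show (e : Matrix (Fin 6) (Fin 6) F) * (b : Matrix (Fin 6) (Fin 6) F) =
      (b : Matrix (Fin 6) (Fin 6) F) * (e : Matrix (Fin 6) (Fin 6) F)
    rw [he, hb, ← map_mul, EB, map_mul]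
  · intro v h0 h1 h2
    rw [hd]
    ext i
    fin_cases i <;> simp [D, Matrix.mulVec, dotProduct, Fin.sum_univ_succ, Matrix.map_apply, h0, h1, h2]

/-- an element of order nine acts irreducibly -/
theorem inv_finrank (hF : Fintype.card F = 2) {g : GL (Fin 6) F} (h9 : g ^ 9 = 1) (h3 : g ^ 3 ≠ 1)
    {W : Submodule F (Fin 6 → F)} (hW : ∀ w ∈ W, (g : Matrix (Fin 6) (Fin 6) F) *ᵥ w ∈ W) :
    Module.finrank F W = 0 ∨ Module.finrank F W = 6 := by
  classical
  have hpow : ∀ (k : ℕ), ∀ w ∈ W, ((g ^ k : GL (Fin 6) F) : Matrix (Fin 6) (Fin 6) F) *ᵥ w ∈ W := by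
    intro k
    induction k with
    | zero => intro w hw; simpa using hw
    | succ k ih =>
      intro w hw
      rw [pow_succ', Units.val_mul, ← Matrix.mulVec_mulVec]
      exact hW _ (ih w hw)
  have ho : orderOf g = 9 := by
    haveI : Fact (Nat.Prime 3) := ⟨Nat.prime_three⟩
    have := orderOf_eq_prime_pow (x := g) (p := 3) (n := 1) (by simpa using h3) (by simpa using h9)
    simpa using this
  have hz : ∀ a ∈ Subgroup.zpowers g, ∃ k : ℕ, k < 9 ∧ a = g ^ k := by
    intro a ha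
    obtain ⟨k, hk, hka⟩ := (mem_zpowers_iff_mem_range_orderOf.mp ha :
      a ∈ (Finset.range (orderOf g)).image (g ^ ·)) |> Finset.mem_image.mp
    rw [ho, Finset.mem_range] at hk
    exact ⟨k, hk, hka.symm⟩
  let X := {w : Fin 6 → F // w ∈ W ∧ w ≠ 0}
  let act : MulAction (Subgroup.zpowers g) X :=
    { smul := fun a w => ⟨((a : GL (Fin 6) F) : Matrix (Fin 6) (Fin 6) F) *ᵥ w.1, by
        obtain ⟨k, -, hk⟩ := hz a a.2
        rw [hk]
        exact hpow k _ w.2.1, by
        intro h0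
        apply w.2.2
        have : (((a⁻¹ : Subgroup.zpowers g) : GL (Fin 6) F) : Matrix (Fin 6) (Fin 6) F) *ᵥ
            (((a : GL (Fin 6) F) : Matrix (Fin 6) (Fin 6) F) *ᵥ w.1) = w.1 := by
          rw [Matrix.mulVec_mulVec, ← Units.val_mul, ← Subgroup.coe_mul, inv_mul_cancel, Subgroup.coe_one,
            Units.val_one, Matrix.one_mulVec]
        rw [← this, h0, Matrix.mulVec_zero]⟩
      one_smul := fun w => Subtype.ext (by
        show (((1 : Subgroup.zpowers g) : GL (Fin 6) F) : Matrix (Fin 6) (Fin 6) F) *ᵥ w.1 = w.1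
        rw [Subgroup.coe_one, Units.val_one, Matrix.one_mulVec])
      mul_smul := fun a b w => Subtype.ext (by
        show (((a * b : Subgroup.zpowers g) : GL (Fin 6) F) : Matrix (Fin 6) (Fin 6) F) *ᵥ w.1 =
          ((a : GL (Fin 6) F) : Matrix (Fin 6) (Fin 6) F) *ᵥ (((b : GL (Fin 6) F) : Matrix (Fin 6) (Fin 6) F) *ᵥ w.1)
        rw [Subgroup.coe_mul, Units.val_mul, Matrix.mulVec_mulVec]) }
  have hdvd : Nat.card (Subgroup.zpowers g) ∣ Nat.card X := by
    refine Cfsg.Agent.SuzukiRankOne.Translation.card_dvd_of_free (H := Subgroup.zpowers g) (X := X) ?_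
    intro a w haw
    obtain ⟨k, hk9, hk⟩ := hz a a.2
    have h1 : ((g ^ k : GL (Fin 6) F) : Matrix (Fin 6) (Fin 6) F) *ᵥ w.1 = w.1 := by
      rw [← hk]
      exact congrArg Subtype.val haw
    have h2 : ∀ m : ℕ, ((g ^ (k * m) : GL (Fin 6) F) : Matrix (Fin 6) (Fin 6) F) *ᵥ w.1 = w.1 := by
      intro m
      induction m with
      | zero => simp
      | succ m ih =>
        rw [mul_add, mul_one, pow_add, Units.val_mul, ← Matrix.mulVec_mulVec, h1, ih]
    by_contra hne
    have hk0 : k ≠ 0 := by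
      rintro rfl
      apply hne
      apply Subtype.ext
      rw [hk, pow_zero, Subgroup.coe_one]
    obtain ⟨m, hm⟩ : ∃ m, (k * m) % 9 = 3 := by
      interval_cases k
      · exact absurd rfl hk0
      · exact ⟨3, rfl⟩
      · exact ⟨6, rfl⟩
      · exact ⟨1, rfl⟩
      · exact ⟨3, rfl⟩
      · exact ⟨6, rfl⟩
      · exact ⟨2, rfl⟩
      · exact ⟨3, rfl⟩
      · exact ⟨6, rfl⟩
    have h4 := h2 m
    have h5 : g ^ (k * m) = g ^ 3 := by
      rw [← hm, ← ho, pow_mod_orderOf]
    rw [h5] at h4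
    exact w.2.2 (L62.eq_zero_of_fixed hF h9 h3 h4)
  have hcardX : Nat.card X = 2 ^ Module.finrank F W - 1 := by
    have h1 : Nat.card W = 2 ^ Module.finrank F W := by
      rw [Module.natCard_eq_pow_finrank (K := F), Nat.card_eq_fintype_card, hF]
    have e : X ≃ {w : W // w ≠ 0} :=
      { toFun := fun w => ⟨⟨w.1, w.2.1⟩, fun h => w.2.2 (congrArg Subtype.val h)⟩
        invFun := fun w => ⟨w.1.1, w.1.2, fun h => w.2 (Subtype.ext h)⟩
        left_inv := fun w => rfl
        right_inv := fun w => rfl }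
    rw [Nat.card_congr e, ← h1, Nat.card_eq_fintype_card, Nat.card_eq_fintype_card, Fintype.card_subtype_compl,
      Fintype.card_subtype_eq]
  rw [Nat.card_zpowers, ho, hcardX] at hdvd
  have hd6 : Module.finrank F W ≤ 6 := by
    have := Submodule.finrank_le W
    rwa [Module.finrank_fintype_fun_eq_card, Fintype.card_fin] at this
  generalize Module.finrank F W = d at hdvd hd6
  interval_cases d
  · exact Or.inl rfl
  · norm_num at hdvd
  · norm_num at hdvd
  · norm_num at hdvd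
  · norm_num at hdvd
  · norm_num at hdvd
  · exact Or.inr rfl

theorem no_comm (hF : Fintype.card F = 2) {g d : GL (Fin 6) F} (h9 : g ^ 9 = 1) (h3 : g ^ 3 ≠ 1) (hd1 : d ≠ 1)
    (hd : ∀ v : Fin 6 → F, v 0 = 0 → v 1 = 0 → v 2 = 0 → (d : Matrix (Fin 6) (Fin 6) F) *ᵥ v = v)
    (hc : g * d = d * g) : False := by
  classical
  let W : Submodule F (Fin 6 → F) := LinearMap.ker (Matrix.toLin' ((d : Matrix (Fin 6) (Fin 6) F) - 1))
  have hmem : ∀ w, w ∈ W ↔ (d : Matrix (Fin 6) (Fin 6) F) *ᵥ w = w := by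
    intro w
    rw [LinearMap.mem_ker, Matrix.toLin'_apply, Matrix.sub_mulVec, Matrix.one_mulVec, sub_eq_zero]
  have hW : ∀ w ∈ W, (g : Matrix (Fin 6) (Fin 6) F) *ᵥ w ∈ W := by
    intro w hw
    rw [hmem] at hw ⊢
    rw [Matrix.mulVec_mulVec, ← Units.val_mul, ← hc, Units.val_mul, ← Matrix.mulVec_mulVec, hw]
  rcases inv_finrank hF h9 h3 hW with h | h
  · have h1 : W = ⊥ := Submodule.finrank_eq_zero.mp h
    have h2 : (Pi.single 3 1 : Fin 6 → F) ∈ W := by
      rw [hmem]
      exact hd _ (by simp) (by simp) (by simp)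
    rw [h1, Submodule.mem_bot] at h2
    have := congrFun h2 3
    simp at this
  · have h1 : W = ⊤ := by
      apply Submodule.eq_top_of_finrank_eq
      rw [h, Module.finrank_fintype_fun_eq_card, Fintype.card_fin]
    apply hd1
    apply Units.ext
    apply (Matrix.toLin' (R := F) (m := Fin 6) (n := Fin 6)).injective
    ext1 i
    apply LinearMap.ext
    intro x
    have h2 : (LinearMap.single F (fun _ => F) i x : Fin 6 → F) ∈ W := by rw [h1]; trivial
    rw [hmem] at h2
    simpa [Matrix.toLin'_apply] using h2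

/-- two `Aut`-classes of subgroups of order `r` cannot both meet a group with Sylow `r`-subgroups of order `r` -/
theorem der_of_two {G : Type*} [Group G] [Finite G] {M : Subgroup G} {r : ℕ} (hr : r.Prime) {x y : G}
    (hx : orderOf x = r) (hy : orderOf y = r) (h2 : ¬ r ^ 2 ∣ Nat.card M) (P : G → Prop)
    (hP : ∀ (φ : G ≃* G) (a : G), P a → P (φ a)) (hPk : ∀ (a : G) (k : ℤ), P a → P (a ^ k)) (hPx : P x)
    (hPy : ¬ P y) : Cfsg.Agent.H396.Der G M := by
  haveI := Fact.mk hr
  by_contra hder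
  unfold Cfsg.Agent.H396.Der at hder
  push Not at hder
  obtain ⟨φ, hφ⟩ := hder x (by rw [hx]; exact hr)
  obtain ⟨ψ, hψ⟩ := hder y (by rw [hy]; exact hr)
  have key : ∀ z : M, orderOf z = r → ∃ Q : Sylow r M, (Q : Subgroup M) = Subgroup.zpowers z := by
    intro z hz
    obtain ⟨Q, hQ⟩ := (IsPGroup.of_card (p := r) (n := 1) (G := Subgroup.zpowers z)
      (by rw [Nat.card_zpowers, hz, pow_one])).exists_le_sylow
    refine ⟨Q, (Subgroup.eq_of_le_of_card_ge hQ ?_).symm⟩
    rw [Nat.card_zpowers, hz]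
    obtain ⟨k, hk⟩ := IsPGroup.iff_card.mp Q.2
    have h3 : r ^ k ∣ Nat.card M := by
      rw [← hk]
      exact Subgroup.card_subgroup_dvd_card _
    have h4 : k ≤ 1 := by
      by_contra h4
      exact h2 ((pow_dvd_pow r (by omega)).trans h3)
    have h5 : r ^ k ≤ r ^ 1 := Nat.pow_le_pow_right hr.pos h4
    rw [pow_one] at h5
    exact hk.le.trans h5
  have ho : ∀ (θ : G ≃* G) (a : G) (ha : θ a ∈ M), orderOf a = r → orderOf (⟨θ a, ha⟩ : M) = r := by
    intro θ a ha h
    rw [← orderOf_injective M.subtype M.subtype_injective]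
    simpa using (orderOf_injective θ.toMonoidHom θ.injective a).trans h
  obtain ⟨Q₁, h₁⟩ := key ⟨φ x, hφ⟩ (ho φ x hφ hx)
  obtain ⟨Q₂, h₂⟩ := key ⟨ψ y, hψ⟩ (ho ψ y hψ hy)
  obtain ⟨m, hm⟩ := MulAction.exists_smul_eq M Q₁ Q₂
  have h3 : (⟨ψ y, hψ⟩ : M) ∈ (m • Q₁ : Sylow r M) := by
    rw [hm]
    show _ ∈ (Q₂ : Subgroup M)
    rw [h₂]
    exact Subgroup.mem_zpowers _
  have h4 : (⟨ψ y, hψ⟩ : M) ∈ (MulAut.conj m • (Q₁ : Subgroup M)) := h3
  rw [h₁] at h4
  obtain ⟨w, hw, hwm⟩ := h4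
  obtain ⟨k, hk⟩ := Subgroup.mem_zpowers_iff.mp hw
  have h5 : ψ y = (m : G) * (φ x) ^ k * (m : G)⁻¹ := by
    have h6 := congrArg Subtype.val hwm
    rw [← hk] at h6
    have h7 : (m : G) * (φ x) ^ k * (m : G)⁻¹ = ψ y := by
      simpa using h6
    exact h7.symm
  have h6 : P (ψ y) := by
    rw [h5]
    exact hP (MulAut.conj (m : G)) _ (hPk _ _ (hP φ x hPx))
  have h7 := hP ψ.symm _ h6
  rw [MulEquiv.symm_apply_apply] at h7
  exact hPy h7

def l62 : List (ℕ × ℕ) := [(2, 15), (3, 4), (5, 1), (7, 2), (31, 1)]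

theorem v62 : valid l62 20158709760 = true := by decide +kernel

theorem c62 : (cands l62 20158709760).filter (fun g => ordN g % 31 == 0 && !(ordN g == 20158709760)) =
    [.psl 5 2, .psl 2 31] := by decide +kernel

theorem card62 {F : Type*} [Field F] [Fintype F] (hF : Fintype.card F = 2) :
    Nat.card (Matrix.ProjectiveSpecialLinearGroup (Fin 6) F) = 20158709760 := by
  have h := Cfsg.Agent.S0243.result (F := F) hF 6 (by norm_num)
  have e1 : ∏ i : Fin 6, (2 ^ 6 - 2 ^ (i : ℕ)) = 20158709760 := by rfl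
  rw [e1] at h
  norm_num at h
  exact h

theorem der62 {F : Type*} [Field F] [Fintype F] (hF : Fintype.card F = 2)
    {M : Subgroup (Matrix.ProjectiveSpecialLinearGroup (Fin 6) F)} (h49 : ¬ 7 ^ 2 ∣ Nat.card M) :
    Cfsg.Agent.H396.Der (Matrix.ProjectiveSpecialLinearGroup (Fin 6) F) M := by
  haveI := finite_psl (F := F) (n := 6)
  obtain ⟨b, d, e, hb9, hb3, hd7, hd1, he7, he1, hc, hd⟩ := exists_elts hF
  have hinj := L62.pr_injective (n := 6) hF
  haveI : Fact (Nat.Prime 7) := ⟨by norm_num⟩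
  have ho : ∀ a : Matrix.SpecialLinearGroup (Fin 6) F, a ^ 7 = 1 → a ≠ 1 → orderOf (pr 6 F a) = 7 := by
    intro a ha ha1
    refine orderOf_eq_prime (by rw [← map_pow, ha, map_one]) fun h => ha1 (hinj (by rw [h, map_one]))
  refine der_of_two (r := 7) (by norm_num) (ho e he7 he1) (ho d hd7 hd1) h49
    (fun z => ∃ g : Matrix.ProjectiveSpecialLinearGroup (Fin 6) F, g ^ 9 = 1 ∧ g ^ 3 ≠ 1 ∧ Commute g z) ?_ ?_ ?_ ?_
  · rintro φ a ⟨g, h9, h3, hg⟩
    refine ⟨φ g, by rw [← map_pow, h9, map_one], fun h => h3 (φ.injective (by rw [map_pow, h, map_one])), ?_⟩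
    exact hg.map φ.toMonoidHom
  · rintro a k ⟨g, h9, h3, hg⟩
    exact ⟨g, h9, h3, hg.zpow_right k⟩
  · refine ⟨pr 6 F b, by rw [← map_pow, hb9, map_one], fun h => hb3 (hinj (by rw [map_pow, h, map_one])), ?_⟩
    show pr 6 F b * pr 6 F e = pr 6 F e * pr 6 F b
    rw [← map_mul, ← map_mul, hc]
  · rintro ⟨g, h9, h3, hg⟩
    obtain ⟨a, rfl⟩ : ∃ a, pr 6 F a = g := QuotientGroup.mk'_surjective _ g
    have ha9 : a ^ 9 = 1 := hinj (by rw [map_pow, h9, map_one])
    have ha3 : a ^ 3 ≠ 1 := fun h => h3 (by rw [← map_pow, h, map_one])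
    have hac : a * d = d * a := by
      apply hinj
      rw [map_mul, map_mul]
      exact hg
    refine no_comm hF (g := Matrix.SpecialLinearGroup.toGL a) (d := Matrix.SpecialLinearGroup.toGL d) ?_ ?_ ?_ ?_ ?_
    · rw [← map_pow, ha9, map_one]
    · intro h
      exact ha3 (toGL_injective (by rw [map_pow, h, map_one]))
    · intro h
      exact hd1 (toGL_injective (by rw [h, map_one]))
    · exact hd
    · rw [← map_mul, hac, map_mul]

theorem clMaxA_62 (T : OrderTable.{u})
    (hS : ∀ (X : Type u) [Group X] [Finite X] [IsSimpleGroup X], IsKnownSimple' X)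
    {F : Type u} [Field F] [Fintype F] (hF : Fintype.card F = 2) :
    Cfsg.Agent.H278.El.ClMaxA (Matrix.ProjectiveSpecialLinearGroup (Fin 6) F) := by
  intro M hM
  haveI := finite_psl (F := F) (n := 6)
  by_contra hder
  obtain ⟨S, _, h⟩ := (exists_soc (by norm_num) hM).resolve_left hder
  obtain ⟨g, hg, hreal, hc⟩ := soc_good T hS h v62 (card62 hF) hM.1 (r := 31) (by norm_num) (by norm_num)
    (by decide) (by norm_num) hder
  rw [c62] at hg
  simp only [List.mem_cons, List.not_mem_nil, or_false] at hg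
  rcases hg with rfl | rfl
  · have hc' : Nat.card S = 9999360 := by rw [hc]; decide +kernel
    haveI : Fact (Nat.Prime 2) := ⟨Nat.prime_two⟩
    have h1 := Cfsg.Agent.H567.OddOver.card_aut_psl (S := S) (n := 5) (q := 2) (p := 2) (f := 1) le_rfl (by norm_num)
      (by norm_num) (by norm_num) hreal
    have e1 : ∏ i : Fin 5, (2 ^ 5 - 2 ^ (i : ℕ)) = 9999360 := by rfl
    rw [e1] at h1
    norm_num at h1
    refine hder (der62 hF fun h49 => ?_)
    have h2 := h49.trans h.aut
    rw [h1] at h2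
    norm_num at h2
  · have hc' : Nat.card S = 14880 := by rw [hc]; decide +kernel
    have h7 := soc_prime T hS h (l := [(2, 5), (3, 1), (5, 1), (31, 1)]) (N := 14880) (by decide +kernel) (r := 7)
      (by rw [hc']) (by norm_num) (by norm_num) (by decide) (by rw [card62 hF]; norm_num) hder
    rw [hc'] at h7
    norm_num at h7

end Cfsg.Agent.H304.SmallL
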